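import Mathlib.AlgebraicGeometry.Sites.Fpqc
import Mathlib.AlgebraicGeometry.Morphisms.Flat
import Mathlib.AlgebraicGeometry.Restrict
import Mathlib.Algebra.Polynomial.Eval.Coeff

/-!
# Functions descend along flat surjective quasi-compact morphisms
-/

set_option autoImplicit false
set_option linter.style.haveILetI false
set_option linter.unusedSectionVars false

noncomputable section

universe u

open CategoryTheory CategoryTheory.Limits AlgebraicGeometry Polynomial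

namespace Groth.Agent.H12Pic.InvDesc

/-- The affine line over the integers. -/
abbrev line : Scheme.{u} := Spec (CommRingCat.of (Polynomial (ULift.{u} ℤ)))

/-- A function as a morphism to the affine line. -/
def fnHom {Y : Scheme.{u}} (v : Γ(Y, ⊤)) : Y ⟶ line.{u} :=
  Y.toSpecΓ ≫ Spec.map (CommRingCat.ofHom
    (eval₂RingHom ((Int.castRingHom Γ(Y, ⊤)).comp ULift.ringEquiv.toRingHom) v))

/-- A morphism to the affine line as a function. -/
def homFn {Y : Scheme.{u}} (m : Y ⟶ line.{u}) : Γ(Y, ⊤) :=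
  m.appTop ((Scheme.ΓSpecIso (CommRingCat.of (Polynomial (ULift.{u} ℤ)))).inv X)

theorem homFn_fnHom {Y : Scheme.{u}} (v : Γ(Y, ⊤)) : homFn (fnHom v) = v := by
  rw [homFn, fnHom, Scheme.Hom.comp_appTop, Scheme.toSpecΓ_appTop, CommRingCat.comp_apply,
    ← CommRingCat.comp_apply, ← CommRingCat.comp_apply, ← Scheme.ΓSpecIso_inv_naturality_assoc,
    Iso.inv_hom_id, Category.comp_id]
  exact eval₂_X _ _

theorem homFn_comp {Y' Y : Scheme.{u}} (u : Y' ⟶ Y) (m : Y ⟶ line.{u}) : homFn (u ≫ m) = u.appTop (homFn m) := by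
  rw [homFn, Scheme.Hom.comp_appTop]
  rfl

theorem homFn_injective {Y : Scheme.{u}} : Function.Injective (homFn (Y := Y)) := by
  intro m m' h
  refine ext_of_isAffine ?_
  rw [← cancel_epi (Scheme.ΓSpecIso (CommRingCat.of (Polynomial (ULift.{u} ℤ)))).inv]
  refine CommRingCat.hom_ext (Polynomial.ringHom_ext' (RingHom.ext fun n => ?_) h)
  obtain ⟨n⟩ := n
  simp only [RingHom.comp_apply]
  exact RingHom.congr_fun (RingHom.ext_int
    ((((Scheme.ΓSpecIso _).inv ≫ m.appTop).hom.comp C).comp ULift.ringEquiv.symm.toRingHom)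
    ((((Scheme.ΓSpecIso _).inv ≫ m'.appTop).hom.comp C).comp ULift.ringEquiv.symm.toRingHom)) n

variable {P X : Scheme.{u}}

/-- The sections of an open as global sections. -/
theorem bijective_ι_appLE (U : X.Opens) (h : (⊤ : U.toScheme.Opens) ≤ U.ι ⁻¹ᵁ U) :
    Function.Bijective (U.ι.appLE U ⊤ h) := by
  haveI : IsIso (U.ι.appLE U ⊤ h) := by
    rw [Scheme.Opens.ι_appLE, show X.presheaf.map _ =
        X.presheaf.map (eqToHom (congrArg Opposite.op U.ι_image_top.symm)) from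
      congrArg _ (Subsingleton.elim _ _)]
    exact Functor.map_isIso X.presheaf (eqToHom _)
  exact ConcreteCategory.bijective_of_isIso _

theorem le_ι_preimage (U : X.Opens) : (⊤ : U.toScheme.Opens) ≤ U.ι ⁻¹ᵁ U := U.ι_preimage_self.ge

theorem restrict_appLE (q : P ⟶ X) (U : X.Opens) (u : Γ(X, U)) :
    (q ∣_ U).appTop (U.ι.appLE U ⊤ (le_ι_preimage U) u) =
      (q ⁻¹ᵁ U).ι.appLE (q ⁻¹ᵁ U) ⊤ (le_ι_preimage _) (q.app U u) := by
  have h₁ := Scheme.Hom.appLE_comp_appLE (q ∣_ U) U.ι U ⊤ ⊤ (le_ι_preimage U) le_rfl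
  have h₂ := Scheme.Hom.appLE_comp_appLE (q ⁻¹ᵁ U).ι q U (q ⁻¹ᵁ U) ⊤ le_rfl (le_ι_preimage _)
  simp only [morphismRestrict_ι] at h₁
  rw [← h₂] at h₁
  rw [Scheme.Hom.appTop, ← Scheme.Hom.appLE_eq_app, ← Scheme.Hom.appLE_eq_app]
  exact ConcreteCategory.congr_hom h₁ u

variable (q : P ⟶ X) [Flat q] [Surjective q] [QuasiCompact q]

theorem effectiveEpi_restrict (U : X.Opens) : EffectiveEpi (q ∣_ U) := by
  haveI : Flat (q ∣_ U) := IsZariskiLocalAtTarget.restrict ‹_› U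
  haveI : Surjective (q ∣_ U) := IsZariskiLocalAtTarget.restrict ‹_› U
  haveI : QuasiCompact (q ∣_ U) := IsZariskiLocalAtTarget.restrict ‹_› U
  infer_instance

/-- Pullback of functions is injective. -/
theorem app_injective (U : X.Opens) : Function.Injective (q.app U) := by
  intro u u' h
  haveI := effectiveEpi_restrict q U
  refine (bijective_ι_appLE U (le_ι_preimage U)).1 ?_
  rw [← homFn_fnHom (U.ι.appLE U ⊤ (le_ι_preimage U) u), ← homFn_fnHom (U.ι.appLE U ⊤ (le_ι_preimage U) u'),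
    show fnHom (U.ι.appLE U ⊤ (le_ι_preimage U) u) = fnHom (U.ι.appLE U ⊤ (le_ι_preimage U) u') from
      (cancel_epi (q ∣_ U)).1 (homFn_injective (by
        rw [homFn_comp, homFn_comp, homFn_fnHom, homFn_fnHom, restrict_appLE, restrict_appLE, h]))]

/-- An invariant function descends. -/
theorem exists_fun_desc (U : X.Opens) (v : Γ(P, q ⁻¹ᵁ U))
    (hinv : ∀ (T : Scheme.{u}) (k₁ k₂ : T ⟶ P) (h₁ : (⊤ : T.Opens) ≤ k₁ ⁻¹ᵁ q ⁻¹ᵁ U)
      (h₂ : (⊤ : T.Opens) ≤ k₂ ⁻¹ᵁ q ⁻¹ᵁ U), k₁ ≫ q = k₂ ≫ q →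
        k₁.appLE (q ⁻¹ᵁ U) ⊤ h₁ v = k₂.appLE (q ⁻¹ᵁ U) ⊤ h₂ v) :
    ∃ u, q.app U u = v := by
  haveI := effectiveEpi_restrict q U
  let v' := (q ⁻¹ᵁ U).ι.appLE (q ⁻¹ᵁ U) ⊤ (le_ι_preimage _) v
  let d := EffectiveEpi.desc (q ∣_ U) (fnHom v') (fun {T} k₁ k₂ hk => homFn_injective (by
    rw [homFn_comp, homFn_comp, homFn_fnHom]
    have hk' : (k₁ ≫ (q ⁻¹ᵁ U).ι) ≫ q = (k₂ ≫ (q ⁻¹ᵁ U).ι) ≫ q := by
      rw [Category.assoc, Category.assoc, ← morphismRestrict_ι, reassoc_of% hk]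
    have e : ∀ k : T ⟶ (q ⁻¹ᵁ U).toScheme, ∃ h : (⊤ : T.Opens) ≤ (k ≫ (q ⁻¹ᵁ U).ι) ⁻¹ᵁ q ⁻¹ᵁ U,
        k.appTop v' = (k ≫ (q ⁻¹ᵁ U).ι).appLE (q ⁻¹ᵁ U) ⊤ h v := fun k => by
      have h : (⊤ : T.Opens) ≤ (k ≫ (q ⁻¹ᵁ U).ι) ⁻¹ᵁ q ⁻¹ᵁ U := fun x _ => (k x).2
      refine ⟨h, ?_⟩
      have := Scheme.Hom.appLE_comp_appLE k (q ⁻¹ᵁ U).ι (q ⁻¹ᵁ U) ⊤ ⊤ (le_ι_preimage _) le_rfl
      rw [Scheme.Hom.appTop, ← Scheme.Hom.appLE_eq_app]
      exact ConcreteCategory.congr_hom this v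
    obtain ⟨h₁, e₁⟩ := e k₁
    obtain ⟨h₂, e₂⟩ := e k₂
    rw [e₁, e₂]
    exact hinv T _ _ h₁ h₂ hk'))
  obtain ⟨u, hu⟩ := (bijective_ι_appLE U (le_ι_preimage U)).2 (homFn d)
  refine ⟨u, (bijective_ι_appLE _ (le_ι_preimage (q ⁻¹ᵁ U))).1 ?_⟩
  rw [← restrict_appLE, hu, ← homFn_comp, EffectiveEpi.fac, homFn_fnHom]

end Groth.Agent.H12Pic.InvDesc
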