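import Groth.Agent.H12Pic.InvDesc.Coboundary
import Groth.Agent.H12Pic.InvDesc.Functions
import Groth.Agent.H11Ample.Basic
import Groth.Agent.H28Pinch.DirectImageTrivial

/-!
# A line bundle which is trivial after a faithfully flat base change is locally trivial over the base
-/

set_option autoImplicit false
set_option linter.style.haveILetI false
set_option linter.unusedSectionVars false

noncomputable section

universe u

open CategoryTheory CategoryTheory.Limits AlgebraicGeometry TopologicalSpace Opposite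

namespace Groth.Agent.H12Pic.InvDesc

open Groth.Agent.H11Tilde

theorem appLE_appLE {A B C : Scheme.{u}} (k : A ⟶ B) (m : B ⟶ C) {U : C.Opens} {V : B.Opens} {W : A.Opens}
    (e₁ : V ≤ m ⁻¹ᵁ U) (e₂ : W ≤ k ⁻¹ᵁ V) (a : Γ(C, U)) :
    k.appLE V W e₂ (m.appLE U V e₁ a) =
      (k ≫ m).appLE U W (e₂.trans (k.preimage_mono e₁)) a :=
  ConcreteCategory.congr_hom (Scheme.Hom.appLE_comp_appLE k m U V W e₁ e₂) a

theorem appLE_congr {A B : Scheme.{u}} {k k' : A ⟶ B} (h : k = k') {U : B.Opens} {W : A.Opens}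
    (e : W ≤ k ⁻¹ᵁ U) (a : Γ(B, U)) : k.appLE U W e a = k'.appLE U W (h ▸ e) a := by
  subst h; rfl

theorem appLE_res {A B : Scheme.{u}} (k : A ⟶ B) {U U' : B.Opens} {W : A.Opens} (h : U' ≤ U)
    (e : W ≤ k ⁻¹ᵁ U') (a : Γ(B, U)) :
    k.appLE U' W e (B.presheaf.map (homOfLE h).op a) = k.appLE U W (e.trans (k.preimage_mono h)) a :=
  ConcreteCategory.congr_hom (Scheme.Hom.map_appLE k e (homOfLE h).op) a

theorem res_appLE {A B : Scheme.{u}} (k : A ⟶ B) {U : B.Opens} {W W' : A.Opens} (h : W' ≤ W)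
    (e : W ≤ k ⁻¹ᵁ U) (a : Γ(B, U)) :
    A.presheaf.map (homOfLE h).op (k.appLE U W e a) = k.appLE U W' (h.trans e) a :=
  ConcreteCategory.congr_hom (Scheme.Hom.appLE_map k e (homOfLE h).op) a

theorem appTop_eq_appLE {A B : Scheme.{u}} (k : A ⟶ B) (a : Γ(B, ⊤)) :
    k.appTop a = k.appLE ⊤ ⊤ le_rfl a := by
  rw [Scheme.Hom.appTop, ← Scheme.Hom.appLE_eq_app]
  rfl

theorem unit_of_mul {R : Type*} [CommRing R] {a b : R} (h : a * b = 1) : IsUnit a :=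
  isUnit_iff_exists_inv.2 ⟨b, h⟩

theorem le_preimage_comp {A B C : Scheme.{u}} {k : A ⟶ B} {m : B ⟶ C} {W : A.Opens} {O : B.Opens} {U : C.Opens}
    (h : W ≤ k ⁻¹ᵁ O) (h' : O ≤ m ⁻¹ᵁ U) : W ≤ (k ≫ m) ⁻¹ᵁ U := h.trans (k.preimage_mono h')

theorem isUnit_of_isGen {Y : Scheme.{u}} {W : Y.Opens} {v : Γ(Coh.structureModule Y, W)}
    (hv : IsGen (Coh.structureModule Y) v) : IsUnit (M := Γ(Y, W)) v := by
  obtain ⟨r, hr⟩ := (hv.bijective le_rfl).2 (1 : Γ(Y, W))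
  beta_reduce at hr
  rw [H10Coh.mres_self] at hr
  exact unit_of_mul ((mul_comm _ _).trans hr : (show Γ(Y, W) from v) * r = 1)

theorem isUnit_of_cover {Y : Scheme.{u}} (a : Γ(Y, ⊤))
    (h : ∀ y : Y, ∃ O : Y.Opens, y ∈ O ∧ IsUnit (Y.presheaf.map (homOfLE (le_top : O ≤ ⊤)).op a)) :
    IsUnit a := by
  refine Y.toRingedSpace.isUnit_of_isUnit_germ ⊤ a fun y hy => ?_
  obtain ⟨O, hyO, hO⟩ := h y
  have := hO.map (Y.presheaf.germ O y hyO).hom
  rwa [TopCat.Presheaf.germ_res_apply] at this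

variable {X V W : Scheme.{u}} (f : X ⟶ V) (g : W ⟶ V) [IsAffine V] [IsAffine W] [Flat g] [Surjective g]

set_option maxHeartbeats 1000000 in
-- long proof
/-- A line bundle trivial after a faithfully flat base change is generated near every fibre. -/
theorem exists_nhd_trivial
    (hb : ∀ (T : Scheme.{u}) (t : T ⟶ V), Function.Bijective (pullback.snd f t).appTop)
    {L : X.Modules} (hL : PicF.IsInvertible L)
    (θ : (Scheme.Modules.pullback (pullback.fst f g)).obj L ≅ Coh.structureModule (pullback f g)) (p : V) :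
    ∃ D : V.Opens, p ∈ D ∧ ∃ e : Γ(L, f ⁻¹ᵁ D), IsGen L e := by
  let q := pullback.fst f g
  let π := pullback.snd f g
  choose U e hxU he using H11Ample.exists_gen hL
  let v : ∀ x, Γ(pullback f g, q ⁻¹ᵁ U x) := fun x => θ.hom.app _ (OmegaSh.pullSect q L (U x) (e x))
  have hv : ∀ x, IsUnit (v x) := fun x => isUnit_of_isGen (IsGen.map_iso θ ((he x).pullSect q))
  have htrans : ∀ x y, ∃ a : Γ(X, U x ⊓ U y),
      L.presheaf.map (homOfLE inf_le_left).op (e x) = a • L.presheaf.map (homOfLE inf_le_right).op (e y) ∧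
      ∀ {T : Scheme.{u}} (k : T ⟶ pullback f g) (hx : (⊤ : T.Opens) ≤ k ⁻¹ᵁ q ⁻¹ᵁ U x)
        (hy : (⊤ : T.Opens) ≤ k ⁻¹ᵁ q ⁻¹ᵁ U y),
        k.appLE _ ⊤ hx (v x) =
          (k ≫ q).appLE (U x ⊓ U y) ⊤ (fun t ht => ⟨hx ht, hy ht⟩) a * k.appLE _ ⊤ hy (v y) := fun x y => by
    obtain ⟨a, ha⟩ := H11Ample.transition (ei := e x) (he y)
    refine ⟨a, ha, fun {T} k hx hy => ?_⟩
    have h₀ := congrArg (OmegaSh.pullSect q L (U x ⊓ U y)) ha
    rw [OmegaSh.pullSect_smul, pullSect_res, pullSect_res] at h₀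
    have h₁ := congrArg (θ.hom.app _) h₀
    rw [Scheme.Modules.Hom.app_smul, H11Tilde.app_map_apply, H11Tilde.app_map_apply] at h₁
    have h₂ : (pullback f g).presheaf.map (homOfLE (q.preimage_mono inf_le_left)).op (v x) =
        q.app (U x ⊓ U y) a * (pullback f g).presheaf.map (homOfLE (q.preimage_mono inf_le_right)).op (v y) := h₁
    have h₃ := congrArg (k.appLE (q ⁻¹ᵁ (U x ⊓ U y)) ⊤ fun t ht => ⟨hx ht, hy ht⟩) h₂
    rw [map_mul, appLE_res, appLE_res, ← Scheme.Hom.appLE_eq_app, appLE_appLE] at h₃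
    exact h₃
  let Q := pullback f (pullback.fst g g ≫ g)
  let a₁ : Q ⟶ pullback f g := pullback.lift (pullback.fst f _) (pullback.snd f _ ≫ pullback.fst g g)
    (by rw [Category.assoc]; exact pullback.condition)
  let a₂ : Q ⟶ pullback f g := pullback.lift (pullback.fst f _) (pullback.snd f _ ≫ pullback.snd g g)
    (by rw [Category.assoc, ← pullback.condition (f := g) (g := g)]; exact pullback.condition)
  have ha₁ : a₁ ≫ q = pullback.fst f _ := pullback.lift_fst _ _ _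
  have ha₂ : a₂ ≫ q = pullback.fst f _ := pullback.lift_fst _ _ _
  let O : X → Q.Opens := fun x => pullback.fst f (pullback.fst g g ≫ g) ⁻¹ᵁ U x
  have hO₁ : ∀ x, O x ≤ a₁ ⁻¹ᵁ q ⁻¹ᵁ U x := fun x => (congrArg (· ⁻¹ᵁ U x) ha₁).ge
  have hO₂ : ∀ x, O x ≤ a₂ ⁻¹ᵁ q ⁻¹ᵁ U x := fun x => (congrArg (· ⁻¹ᵁ U x) ha₂).ge
  have hC : ∀ x, ∃ C : Γ(Q, O x), IsUnit C ∧
      a₁.appLE _ (O x) (hO₁ x) (v x) = C * a₂.appLE _ (O x) (hO₂ x) (v x) := fun x => by
    obtain ⟨B, hB⟩ := ((hv x).map (a₂.appLE _ (O x) (hO₂ x)).hom).exists_left_inv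
    refine ⟨a₁.appLE _ (O x) (hO₁ x) (v x) * B,
      ((hv x).map (a₁.appLE _ (O x) (hO₁ x)).hom).mul (unit_of_mul hB), ?_⟩
    rw [mul_assoc]
    exact ((congrArg (_ * ·) hB).trans (mul_one _)).symm
  choose C hCu hC using hC
  have hCT : ∀ {T : Scheme.{u}} (ℓ : T ⟶ Q) (x : X) (h : (⊤ : T.Opens) ≤ ℓ ⁻¹ᵁ O x),
      (ℓ ≫ a₁).appLE _ ⊤ (le_preimage_comp h (hO₁ x)) (v x) =
        ℓ.appLE _ ⊤ h (C x) * (ℓ ≫ a₂).appLE _ ⊤ (le_preimage_comp h (hO₂ x)) (v x) :=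
    fun {T} ℓ x h => by
      rw [← appLE_appLE ℓ a₁ (hO₁ x) h, ← appLE_appLE ℓ a₂ (hO₂ x) h, hC, map_mul]
  obtain ⟨cQ, hcQ, -⟩ := TopCat.Sheaf.existsUnique_gluing' ⟨Q.presheaf, Q.sheaf.property⟩ O ⊤
    (fun x => homOfLE le_top)
    (fun z _ => Opens.mem_iSup.2 ⟨pullback.fst f (pullback.fst g g ≫ g) z, hxU _⟩) C fun x y => by
      let N := O x ⊓ O y
      change Q.presheaf.map (homOfLE (inf_le_left : N ≤ O x)).op (C x) =
        Q.presheaf.map (homOfLE (inf_le_right : N ≤ O y)).op (C y)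
      refine (bijective_ι_appLE N (le_ι_preimage N)).1 ?_
      rw [appLE_res, appLE_res]
      have hx : (⊤ : N.toScheme.Opens) ≤ N.ι ⁻¹ᵁ O x := fun t _ => t.2.1
      have hy : (⊤ : N.toScheme.Opens) ≤ N.ι ⁻¹ᵁ O y := fun t _ => t.2.2
      obtain ⟨a, -, hab⟩ := htrans x y
      have h₁x := hCT N.ι x hx
      have h₁y := hCT N.ι y hy
      rw [hab (N.ι ≫ a₁) _ (le_preimage_comp hy (hO₁ y)),
        hab (N.ι ≫ a₂) _ (le_preimage_comp hy (hO₂ y)), h₁y,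
        appLE_congr (show (N.ι ≫ a₁) ≫ q = (N.ι ≫ a₂) ≫ q by
          rw [Category.assoc, Category.assoc, ha₁, ha₂]), ← mul_assoc, ← mul_assoc, mul_comm _
          (N.ι.appLE (O y) ⊤ hy (C y))] at h₁x
      refine ((IsUnit.mul_left_inj ?_).1 ((IsUnit.mul_left_inj
        ((hv y).map ((N.ι ≫ a₂).appLE _ ⊤ (le_preimage_comp hy (hO₂ y))).hom)).1 h₁x)).symm
      obtain ⟨B, hB⟩ := ((hv x).map ((N.ι ≫ a₂).appLE _ ⊤ (le_preimage_comp hx (hO₂ x))).hom).exists_left_inv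
      refine unit_of_mul (b := (N.ι ≫ a₂).appLE _ ⊤ (le_preimage_comp hy (hO₂ y)) (v y) * B) ?_
      rw [← mul_assoc, ← hab (N.ι ≫ a₂) (le_preimage_comp hx (hO₂ x)) (le_preimage_comp hy (hO₂ y)),
        mul_comm]
      exact hB
  obtain ⟨c, hc⟩ := (hb _ (pullback.fst g g ≫ g)).2 cQ
  -- the values of the cocycle
  have K : ∀ {T : Scheme.{u}} (k₁ k₂ : T ⟶ pullback f g) (hk : k₁ ≫ q = k₂ ≫ q) (x : X)
      (h₁ : (⊤ : T.Opens) ≤ k₁ ⁻¹ᵁ q ⁻¹ᵁ U x) (h₂ : (⊤ : T.Opens) ≤ k₂ ⁻¹ᵁ q ⁻¹ᵁ U x)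
      (h : (k₁ ≫ π) ≫ g = (k₂ ≫ π) ≫ g),
      k₁.appLE _ ⊤ h₁ (v x) = evP g c (k₁ ≫ π) (k₂ ≫ π) h * k₂.appLE _ ⊤ h₂ (v x) := by
    intro T k₁ k₂ hk x h₁ h₂ h
    let ℓ : T ⟶ Q := pullback.lift (k₁ ≫ q) (pullback.lift (k₁ ≫ π) (k₂ ≫ π) h) (by
      rw [pullback.lift_fst_assoc, Category.assoc, Category.assoc, pullback.condition])
    have hℓ : ℓ ≫ pullback.fst f _ = k₁ ≫ q := pullback.lift_fst _ _ _
    have e₁ : ℓ ≫ a₁ = k₁ := by
      refine pullback.hom_ext ((Category.assoc _ _ _).trans ((congrArg (ℓ ≫ ·) ha₁).trans hℓ)) ?_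
      rw [Category.assoc, pullback.lift_snd, pullback.lift_snd_assoc, pullback.lift_fst]
    have e₂ : ℓ ≫ a₂ = k₂ := by
      refine pullback.hom_ext ((Category.assoc _ _ _).trans ((congrArg (ℓ ≫ ·) ha₂).trans (hℓ.trans hk))) ?_
      rw [Category.assoc, pullback.lift_snd, pullback.lift_snd_assoc, pullback.lift_snd]
    have hx : (⊤ : T.Opens) ≤ ℓ ⁻¹ᵁ O x := h₁.trans (congrArg (· ⁻¹ᵁ U x) hℓ).ge
    have hev : evP g c (k₁ ≫ π) (k₂ ≫ π) h = ℓ.appLE _ ⊤ hx (C x) := by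
      have hs : ℓ ≫ pullback.snd f (pullback.fst g g ≫ g) = pullback.lift (k₁ ≫ π) (k₂ ≫ π) h :=
        pullback.lift_snd _ _ _
      rw [evP, ← hs, Scheme.Hom.comp_appTop, CommRingCat.comp_apply, hc, appTop_eq_appLE,
        ← hcQ x, appLE_res]
    have := hCT ℓ x hx
    rw [appLE_congr e₁, appLE_congr e₂, ← hev] at this
    exact this
  have hcu : IsUnit c := by
    have hQu : IsUnit cQ := isUnit_of_cover cQ fun z =>
      ⟨O (pullback.fst f (pullback.fst g g ≫ g) z), hxU _, (hcQ _).symm ▸ hCu _⟩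
    rw [← hc] at hQu
    obtain ⟨d, hd⟩ := hQu.exists_right_inv
    obtain ⟨d', rfl⟩ := (hb _ (pullback.fst g g ≫ g)).2 d
    rw [← map_mul] at hd
    exact unit_of_mul (b := d') ((hb _ _).1 (hd.trans (map_one _).symm))
  have hcoc : IsCocycle g c := fun T t₁ t₂ t₃ h₁₂ h₂₃ => by
    refine (hb T (t₁ ≫ g)).1 ?_
    let R := pullback f (t₁ ≫ g)
    let r := pullback.snd f (t₁ ≫ g)
    rw [map_mul, ← evP_comp g c r t₁ t₂ h₁₂ rfl rfl, ← evP_comp g c r t₂ t₃ h₂₃ rfl rfl,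
      ← evP_comp g c r t₁ t₃ (h₁₂.trans h₂₃) rfl rfl]
    refine TopCat.Sheaf.eq_of_locally_eq' ⟨R.presheaf, R.sheaf.property⟩
      (fun x => pullback.fst f (t₁ ≫ g) ⁻¹ᵁ U x) ⊤ (fun x => homOfLE le_top)
      (fun z _ => Opens.mem_iSup.2 ⟨pullback.fst f (t₁ ≫ g) z, hxU _⟩) _ _ fun x => ?_
    let N := pullback.fst f (t₁ ≫ g) ⁻¹ᵁ U x
    change R.presheaf.map (homOfLE (le_top : N ≤ ⊤)).op _ = R.presheaf.map (homOfLE (le_top : N ≤ ⊤)).op _
    refine (bijective_ι_appLE N (le_ι_preimage N)).1 ?_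
    rw [appLE_res, appLE_res, ← appTop_eq_appLE, ← appTop_eq_appLE, map_mul]
    let k : ∀ (t : T ⟶ W), t ≫ g = t₁ ≫ g → (N.toScheme ⟶ pullback f g) := fun t ht =>
      N.ι ≫ pullback.lift (pullback.fst f (t₁ ≫ g)) (r ≫ t) (by rw [Category.assoc, ht]; exact pullback.condition)
    have hkq : ∀ t ht, k t ht ≫ q = N.ι ≫ pullback.fst f (t₁ ≫ g) := fun t ht => by
      rw [Category.assoc, pullback.lift_fst]
    have hkπ : ∀ t ht, k t ht ≫ π = N.ι ≫ r ≫ t := fun t ht => by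
      rw [Category.assoc, pullback.lift_snd]
    have hkU : ∀ t ht, (⊤ : N.toScheme.Opens) ≤ k t ht ⁻¹ᵁ q ⁻¹ᵁ U x := fun t ht z _ => by
      have := congrArg (fun m : N.toScheme ⟶ X => m z) (hkq t ht)
      change (k t ht ≫ q) z ∈ U x
      rw [this]
      exact z.2
    have hev : ∀ (t t' : T ⟶ W) (ht : t ≫ g = t₁ ≫ g) (ht' : t' ≫ g = t₁ ≫ g),
        (k t ht).appLE _ ⊤ (hkU t ht) (v x) =
          N.ι.appTop (evP g c (r ≫ t) (r ≫ t') (by rw [Category.assoc, Category.assoc, ht, ht'])) *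
            (k t' ht').appLE _ ⊤ (hkU t' ht') (v x) := fun t t' ht ht' => by
      rw [← evP_comp g c N.ι _ _ _ (hkπ t ht).symm (hkπ t' ht').symm]
      exact K _ _ ((hkq t ht).trans (hkq t' ht').symm) x _ _ _
    have e13 := hev t₁ t₃ rfl (h₁₂.trans h₂₃).symm
    rw [hev t₁ t₂ rfl h₁₂.symm, hev t₂ t₃ h₁₂.symm (h₁₂.trans h₂₃).symm, ← mul_assoc] at e13
    exact (IsUnit.mul_left_inj ((hv x).map
      ((k t₃ (h₁₂.trans h₂₃).symm).appLE _ ⊤ (hkU t₃ (h₁₂.trans h₂₃).symm)).hom)).1 e13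
  obtain ⟨D, hpD, b, hbD, hb₂⟩ := exists_coboundary_scheme g c hcu hcoc p
  let U' : X → X.Opens := fun x => U x ⊓ f ⁻¹ᵁ D
  have hβ : ∀ x, IsUnit (π.appLE ⊤ (q ⁻¹ᵁ U' x) le_top b) := fun x => by
    have hle : q ⁻¹ᵁ U' x ≤ π ⁻¹ᵁ W.basicOpen b := fun z hz => hbD (by
      change (π ≫ g) z ∈ D
      rw [← pullback.condition]
      exact hz.2)
    have h := (W.toRingedSpace.isUnit_res_basicOpen b).map (π.appLE _ (q ⁻¹ᵁ U' x) hle).hom
    change IsUnit (π.appLE _ _ hle (W.presheaf.map (homOfLE (W.basicOpen_le b)).op b)) at h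
    rwa [appLE_res] at h
  have hzeta : ∀ x, ∃ z : Γ(X, U' x), IsUnit z ∧
      q.app (U' x) z * (pullback f g).presheaf.map (homOfLE (q.preimage_mono inf_le_left)).op (v x) =
        π.appLE ⊤ (q ⁻¹ᵁ U' x) le_top b := fun x => by
    let vx := (pullback f g).presheaf.map (homOfLE (q.preimage_mono (inf_le_left : U' x ≤ U x))).op (v x)
    have hvx : IsUnit vx := (hv x).map ((pullback f g).presheaf.map _).hom
    obtain ⟨B, hB⟩ := hvx.exists_left_inv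
    let y := π.appLE ⊤ (q ⁻¹ᵁ U' x) le_top b * B
    have hy : y * vx = π.appLE ⊤ (q ⁻¹ᵁ U' x) le_top b := by rw [mul_assoc, hB, mul_one]
    have hyu : IsUnit y := (hβ x).mul (unit_of_mul hB)
    have hinv : ∀ (T : Scheme.{u}) (k₁ k₂ : T ⟶ pullback f g) (h₁ : (⊤ : T.Opens) ≤ k₁ ⁻¹ᵁ q ⁻¹ᵁ U' x)
        (h₂ : (⊤ : T.Opens) ≤ k₂ ⁻¹ᵁ q ⁻¹ᵁ U' x), k₁ ≫ q = k₂ ≫ q →
          k₁.appLE _ ⊤ h₁ y = k₂.appLE _ ⊤ h₂ y := by
      intro T k₁ k₂ h₁ h₂ hk
      have hg : (k₁ ≫ π) ≫ g = (k₂ ≫ π) ≫ g := by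
        rw [Category.assoc, Category.assoc, ← pullback.condition, reassoc_of% hk]
      have eb : ∀ (k : T ⟶ pullback f g) (h : (⊤ : T.Opens) ≤ k ⁻¹ᵁ q ⁻¹ᵁ U' x),
          k.appLE _ ⊤ h y * k.appLE _ ⊤ (h.trans (k.preimage_mono (q.preimage_mono inf_le_left))) (v x) =
            (k ≫ π).appTop b := fun k h => by
        have := congrArg (k.appLE _ ⊤ h) hy
        rw [map_mul, appLE_res, appLE_appLE] at this
        rw [appTop_eq_appLE]
        exact this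
      have := hb₂ T (k₁ ≫ π) (k₂ ≫ π) hg
      rw [← eb k₁ h₁, ← eb k₂ h₂, K k₁ k₂ hk x _ (h₂.trans (k₂.preimage_mono (q.preimage_mono inf_le_left))) hg,
        mul_left_comm] at this
      refine (IsUnit.mul_left_inj ?_).1 ((IsUnit.mul_right_inj (hcu.map (pullback.lift _ _ hg).appTop.hom)).1 this)
      exact (hv x).map (k₂.appLE _ ⊤ _).hom
    obtain ⟨z, hz⟩ := exists_fun_desc q (U' x) y hinv
    obtain ⟨y', hy'⟩ := hyu.exists_right_inv
    obtain ⟨z', hz'⟩ := exists_fun_desc q (U' x) y' fun T k₁ k₂ h₁ h₂ hk => by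
      have e1 := congrArg (k₁.appLE _ ⊤ h₁) hy'
      have e2 := congrArg (k₂.appLE _ ⊤ h₂) hy'
      rw [map_mul, map_one] at e1 e2
      rw [hinv T k₁ k₂ h₁ h₂ hk] at e1
      exact (IsUnit.mul_right_inj (hyu.map (k₂.appLE _ ⊤ h₂).hom)).1 (e1.trans e2.symm)
    refine ⟨z, unit_of_mul (b := z') (app_injective q _ ?_), ?_⟩
    · rw [map_mul, map_one, hz, hz', hy']
    · exact (congrArg (· * _) hz).trans hy
  choose z hz hzv using hzeta
  obtain ⟨ε, hε, -⟩ := TopCat.Sheaf.existsUnique_gluing' ⟨L.presheaf, L.isSheaf⟩ U' (f ⁻¹ᵁ D)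
    (fun x => homOfLE inf_le_right) (fun x hx => Opens.mem_iSup.2 ⟨x, hxU x, hx⟩)
    (fun x => z x • L.presheaf.map (homOfLE inf_le_left).op (e x)) fun x y => by
      let N := U' x ⊓ U' y
      change L.presheaf.map (homOfLE (inf_le_left : N ≤ U' x)).op _ =
        L.presheaf.map (homOfLE (inf_le_right : N ≤ U' y)).op _
      obtain ⟨a, ha, hab⟩ := htrans x y
      have hN : N ≤ U x ⊓ U y := fun t ht => ⟨ht.1.1, ht.2.1⟩
      have haN := congrArg (L.presheaf.map (homOfLE hN).op) ha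
      rw [Scheme.Modules.map_smul, H10Coh.mres_mres, H10Coh.mres_mres] at haN
      rw [Scheme.Modules.map_smul, Scheme.Modules.map_smul, H10Coh.mres_mres, H10Coh.mres_mres, haN, smul_smul]
      congr 1
      refine app_injective q N ?_
      refine (bijective_ι_appLE (q ⁻¹ᵁ N) (le_ι_preimage _)).1 ?_
      let M := q ⁻¹ᵁ N
      rw [map_mul, map_mul, ← Scheme.Hom.appLE_eq_app, appLE_res, appLE_res, appLE_res,
        appLE_appLE, appLE_appLE, appLE_appLE]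
      have hx' : (⊤ : M.toScheme.Opens) ≤ M.ι ⁻¹ᵁ q ⁻¹ᵁ U' x := fun t _ => t.2.1
      have hy' : (⊤ : M.toScheme.Opens) ≤ M.ι ⁻¹ᵁ q ⁻¹ᵁ U' y := fun t _ => t.2.2
      have ex := congrArg (M.ι.appLE _ ⊤ hx') (hzv x)
      have ey := congrArg (M.ι.appLE _ ⊤ hy') (hzv y)
      rw [map_mul, ← Scheme.Hom.appLE_eq_app, appLE_appLE, appLE_appLE, appLE_res] at ex ey
      rw [hab M.ι _ (hy'.trans (M.ι.preimage_mono (q.preimage_mono inf_le_left))), ← mul_assoc, ← ey] at ex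
      exact (IsUnit.mul_left_inj ((hv y).map (M.ι.appLE _ ⊤ _).hom)).1 ex
  refine ⟨D, hpD, ε, fun x hx => ?_⟩
  have hεx : L.presheaf.map (homOfLE (inf_le_right : U' x ≤ f ⁻¹ᵁ D)).op ε = _ := hε x
  have hgen := H11Ample.isGen_res (he x) (inf_le_left : U' x ≤ U x) (hz x) x ⟨hxU x, hx⟩
  rw [← hεx, TopCat.Presheaf.germ_res_apply] at hgen
  exact hgen

end Groth.Agent.H12Pic.InvDesc
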