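import Groth.Agent.H12Pic.InvDesc.Cover
import Groth.Agent.H11Ample.Restrict
import Groth.Agent.H12Pic.Cube.Artin

/-!
# Covers of the base by finitely many affine schemes over which a line bundle is trivial
-/

set_option autoImplicit false
set_option linter.style.haveILetI false
set_option linter.unusedSectionVars false

noncomputable section

universe u

open CategoryTheory CategoryTheory.Limits AlgebraicGeometry TopologicalSpace Opposite

namespace Groth.Agent.H12Pic.InvDesc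

open Groth.Agent.H11Tilde

variable {X S : Scheme.{u}}

/-- A trivialisation over an open gives a generator over it. -/
theorem exists_gen_of_restrict_iso {M : X.Modules} {U : X.Opens} (φ : M.restrict U.ι ≅ Coh.structureModule U) :
    ∃ e : Γ(M, U.ι ''ᵁ ⊤), IsGen M e := by
  let t : Γ(M.restrict U.ι, (⊤ : U.toScheme.Opens)) := φ.inv.app ⊤ (H11Ample.one ⊤)
  have ht : IsGen (M.restrict U.ι) t := IsGen.map_iso φ.symm (H11Ample.isGen_one ⊤)
  refine ⟨H11Ample.toImg U M t, isGen_of_bijective fun W hW => ?_⟩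
  obtain ⟨W', rfl⟩ : ∃ W', W = U.ι ''ᵁ W' := ⟨U.ι ⁻¹ᵁ W, by
    rw [Scheme.Hom.image_preimage_eq_opensRange_inf, Scheme.Opens.opensRange_ι,
      inf_eq_right.2 (hW.trans U.ι_image_top.le)]⟩
  refine (Function.Bijective.of_comp_iff _ (ConcreteCategory.bijective_of_isIso (U.ι.appIso W').inv)).1 ?_
  exact ht.bijective le_top

/-- Generators on a disjoint cover trivialise a module. -/
theorem nonempty_iso_of_disjoint_gens {κ : Type u} {M : X.Modules} (O : κ → X.Opens)
    (hcov : ∀ x, ∃ k, x ∈ O k) (hdis : ∀ i j, i ≠ j → O i ⊓ O j = ⊥) (e : ∀ k, Γ(M, O k))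
    (he : ∀ k, IsGen M (e k)) : Nonempty (M ≅ Coh.structureModule X) := by
  obtain ⟨φ, -⟩ := H11Ample.exists_iso_of_gen (Q := Coh.structureModule X) O hcov e he
    (fun k => H11Ample.one (O k)) (fun k => H11Ample.isGen_one (O k)) (fun i j a ha => by
      by_cases h : i = j
      · subst h
        have h1 : a = 1 := ((he i).bijective inf_le_right).1 (ha.symm.trans (one_smul Γ(X, O i ⊓ O i) _).symm)
        rw [h1, one_smul]
      · refine eq_of_locally _ _ fun x hx => ?_
        rw [hdis i j h] at hx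
        exact hx.elim)
  exact ⟨φ⟩

variable (f : X ⟶ S)

/-- Finitely many trivialising affine schemes make one. -/
theorem nonempty_iso_sigma {κ : Type u} {Z : κ → Scheme.{u}} (u : ∀ k, Z k ⟶ S) (L : X.Modules)
    (θ : ∀ k, Nonempty ((Scheme.Modules.pullback (pullback.fst f (u k))).obj L ≅
      Coh.structureModule (pullback f (u k)))) :
    Nonempty ((Scheme.Modules.pullback (pullback.fst f (Sigma.desc u))).obj L ≅
      Coh.structureModule (pullback f (Sigma.desc u))) := by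
  let π := pullback.snd f (Sigma.desc u)
  let O : κ → (pullback f (Sigma.desc u)).Opens := fun k => π ⁻¹ᵁ (Sigma.ι Z k).opensRange
  have hg : ∀ k, ∃ e : Γ((Scheme.Modules.pullback (pullback.fst f (Sigma.desc u))).obj L, (O k).ι ''ᵁ ⊤),
      IsGen _ e := by
    intro k
    obtain ⟨θk⟩ := θ k
    let l : (O k).toScheme ⟶ Z k := IsOpenImmersion.lift (Sigma.ι Z k) ((O k).ι ≫ π) (by
      rintro _ ⟨x, rfl⟩
      exact x.2)
    let b : (O k).toScheme ⟶ pullback f (u k) :=
      pullback.lift ((O k).ι ≫ pullback.fst f (Sigma.desc u)) l (by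
        rw [Category.assoc, pullback.condition, ← Sigma.ι_desc u k, IsOpenImmersion.lift_fac_assoc, Category.assoc])
    exact exists_gen_of_restrict_iso ((Scheme.Modules.restrictFunctorIsoPullback (O k).ι).app _ ≪≫
      (Scheme.Modules.pullbackComp _ _).app L ≪≫
      (Scheme.Modules.pullbackCongr (pullback.lift_fst _ _ _).symm).app L ≪≫
      ((Scheme.Modules.pullbackComp b _).app L).symm ≪≫ (Scheme.Modules.pullback b).mapIso θk ≪≫
      PicLoc.pullbackStructureIso b)
  choose e he using hg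
  refine nonempty_iso_of_disjoint_gens (fun k => (O k).ι ''ᵁ ⊤) (fun x => ?_) (fun i j hij => ?_) e he
  · obtain ⟨k, y, hy⟩ := (sigmaOpenCover Z).exists_eq (π x)
    exact ⟨k, ⟨x, ⟨y, hy⟩⟩, trivial, rfl⟩
  · rw [(O i).ι_image_top, (O j).ι_image_top]
    change π ⁻¹ᵁ (Sigma.ι Z i).opensRange ⊓ π ⁻¹ᵁ (Sigma.ι Z j).opensRange = ⊥
    rw [← Scheme.Hom.preimage_inf, (disjoint_opensRange_sigmaι Z i j hij).eq_bot]
    rfl

/-- An affine cover of an affine open assembled from finitely many pieces. -/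
theorem exists_cover_of_finite {V : S.Opens} {κ : Type u} [Finite κ] {Z : κ → Scheme.{u}} [∀ k, IsAffine (Z k)]
    (u : ∀ k, Z k ⟶ V.toScheme) [∀ k, Flat (u k)] (hsurj : ∀ v : V.toScheme, ∃ k z, u k z = v) (L : X.Modules)
    (θ : ∀ k, Nonempty ((Scheme.Modules.pullback (pullback.fst f (u k ≫ V.ι))).obj L ≅
      Coh.structureModule (pullback f (u k ≫ V.ι)))) :
    ∃ (W : Scheme.{u}) (_ : IsAffine W) (g : W ⟶ V.toScheme),
      Flat g ∧ Surjective g ∧ Nonempty ((Scheme.Modules.pullback (pullback.fst f (g ≫ V.ι))).obj L ≅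
        Coh.structureModule (pullback f (g ≫ V.ι))) := by
  refine ⟨∐ Z, inferInstance, Sigma.desc u, IsZariskiLocalAtSource.sigmaDesc fun k => inferInstance, ⟨fun v => ?_⟩, ?_⟩
  · obtain ⟨k, z, hz⟩ := hsurj v
    exact ⟨Sigma.ι Z k z, by rw [← Scheme.Hom.comp_apply, Sigma.ι_desc, hz]⟩
  · rw [show Sigma.desc u ≫ V.ι = Sigma.desc fun k => u k ≫ V.ι from Sigma.hom_ext _ _ fun k => by
      rw [Sigma.ι_desc_assoc, Sigma.ι_desc]]
    exact nonempty_iso_sigma f _ L θ

/-- Twisted trivialisations become trivialisations on smaller opens. -/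
theorem nonempty_iso_of_twist {U S' : Scheme.{u}} (s : S' ⟶ S) (j : U ⟶ S') {L : X.Modules} {N : S'.Modules}
    (θ : (Scheme.Modules.pullback (pullback.fst f s)).obj L ≅ (Scheme.Modules.pullback (pullback.snd f s)).obj N)
    (ν : (Scheme.Modules.pullback j).obj N ≅ Coh.structureModule U) :
    Nonempty ((Scheme.Modules.pullback (pullback.fst f (j ≫ s))).obj L ≅
      Coh.structureModule (pullback f (j ≫ s))) := by
  let m : pullback f (j ≫ s) ⟶ pullback f s :=
    pullback.lift (pullback.fst f _) (pullback.snd f _ ≫ j) (by rw [Category.assoc]; exact pullback.condition)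
  exact ⟨(Scheme.Modules.pullbackCongr (pullback.lift_fst _ _ _).symm).app L ≪≫
    ((Scheme.Modules.pullbackComp m _).app L).symm ≪≫ (Scheme.Modules.pullback m).mapIso θ ≪≫
    (Scheme.Modules.pullbackComp m _).app N ≪≫
    (Scheme.Modules.pullbackCongr (pullback.lift_snd _ _ _)).app N ≪≫
    ((Scheme.Modules.pullbackComp _ j).app N).symm ≪≫ (Scheme.Modules.pullback _).mapIso ν ≪≫
    PicLoc.pullbackStructureIso _⟩

/-- Flatness over an open. -/
theorem flat_of_comp_ι {W : Scheme.{u}} {V : S.Opens} (g : W ⟶ V.toScheme) [Flat (g ≫ V.ι)] : Flat g := by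
  have hsq : IsPullback (g ≫ 𝟙 _) (𝟙 W) V.ι (g ≫ V.ι) :=
    (IsPullback.of_vert_isIso ⟨by simp⟩ : IsPullback g (𝟙 W) (𝟙 V.toScheme) g).paste_horiz
      (IsKernelPair.id_of_mono V.ι)
  rw [← Category.comp_id g]
  exact MorphismProperty.of_isPullback (P := @Flat) hsq.flip ‹_›

/-- A trivialisation over `D ⊆ V` as a trivialisation over the open of `S`. -/
theorem triv_of_restrict {V : S.Opens} (D : V.toScheme.Opens) {L : X.Modules}
    (φ : (Scheme.Modules.pullback ((f ∣_ V) ⁻¹ᵁ D).ι).obj ((Scheme.Modules.pullback (f ⁻¹ᵁ V).ι).obj L) ≅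
      Coh.structureModule ((f ∣_ V) ⁻¹ᵁ D)) :
    Nonempty ((Scheme.Modules.pullback (f ⁻¹ᵁ (V.ι ''ᵁ D)).ι).obj L ≅
      Coh.structureModule (f ⁻¹ᵁ (V.ι ''ᵁ D))) := by
  let j := ((f ∣_ V) ⁻¹ᵁ D).ι ≫ (f ⁻¹ᵁ V).ι
  have hr : Set.range (f ⁻¹ᵁ (V.ι ''ᵁ D)).ι = Set.range j := by
    rw [Scheme.Opens.range_ι, ← image_morphismRestrict_preimage, Scheme.Hom.comp_base, TopCat.coe_comp,
      Set.range_comp, Scheme.Opens.range_ι]
    rfl
  let ψ := IsOpenImmersion.isoOfRangeEq (f ⁻¹ᵁ (V.ι ''ᵁ D)).ι j hr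
  exact ⟨(Scheme.Modules.pullbackCongr (IsOpenImmersion.isoOfRangeEq_hom_fac _ _ hr).symm).app L ≪≫
    ((Scheme.Modules.pullbackComp ψ.hom j).app L).symm ≪≫
    (Scheme.Modules.pullback ψ.hom).mapIso (((Scheme.Modules.pullbackComp _ _).app L).symm ≪≫ φ) ≪≫
    PicLoc.pullbackStructureIso _⟩

/-- A trivialisation over `W → V` for the restricted morphism. -/
theorem triv_restrict {V : S.Opens} {W : Scheme.{u}} (g : W ⟶ V.toScheme) {L : X.Modules}
    (θ : (Scheme.Modules.pullback (pullback.fst f (g ≫ V.ι))).obj L ≅ Coh.structureModule (pullback f (g ≫ V.ι))) :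
    Nonempty ((Scheme.Modules.pullback (pullback.fst (f ∣_ V) g)).obj
        ((Scheme.Modules.pullback (f ⁻¹ᵁ V).ι).obj L) ≅ Coh.structureModule (pullback (f ∣_ V) g)) := by
  let m : pullback (f ∣_ V) g ⟶ pullback f (g ≫ V.ι) :=
    pullback.lift (pullback.fst (f ∣_ V) g ≫ (f ⁻¹ᵁ V).ι) (pullback.snd (f ∣_ V) g) (by
      rw [Category.assoc, ← morphismRestrict_ι, pullback.condition_assoc])
  exact ⟨(Scheme.Modules.pullbackComp _ _).app L ≪≫
    (Scheme.Modules.pullbackCongr (pullback.lift_fst _ _ _).symm).app L ≪≫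
    ((Scheme.Modules.pullbackComp m _).app L).symm ≪≫ (Scheme.Modules.pullback m).mapIso θ ≪≫
    PicLoc.pullbackStructureIso m⟩

/-- Small affine opens trivialise a line bundle. -/
theorem exists_affine_trivial {N : S.Modules} (hN : PicF.IsInvertible N) {x : S} {U₀ : S.Opens} (hx : x ∈ U₀) :
    ∃ U : S.Opens, IsAffineOpen U ∧ x ∈ U ∧ U ≤ U₀ ∧
      Nonempty ((Scheme.Modules.pullback U.ι).obj N ≅ Coh.structureModule U) := by
  obtain ⟨B, e, hxB, he⟩ := H11Ample.exists_gen hN x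
  obtain ⟨U, hU, hxU, hUB⟩ := exists_isAffineOpen_mem_and_subset (U := U₀ ⊓ B) (x := x) ⟨hx, hxB⟩
  obtain ⟨φ⟩ := H11Tilde.nonempty_iso_structureModule N U (N.presheaf.map (homOfLE (hUB.trans inf_le_right)).op e)
    fun W hW => (he.res _).bijective hW
  exact ⟨U, hU, hxU, hUB.trans inf_le_left, ⟨((Scheme.Modules.restrictFunctorIsoPullback U.ι).app N).symm ≪≫ φ⟩⟩

end Groth.Agent.H12Pic.InvDesc
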