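import Mathlib.RingTheory.Flat.FaithfullyFlat.Basic
import Mathlib.RingTheory.TensorProduct.Basic
import Mathlib.AlgebraicGeometry.Morphisms.Flat
import Mathlib.AlgebraicGeometry.Pullbacks
import Mathlib.AlgebraicGeometry.PullbackCarrier

/-!
# Multiplicative one-cocycles of a faithfully flat cover are locally coboundaries
-/

set_option autoImplicit false
set_option linter.unusedSectionVars false
set_option linter.style.haveILetI false

noncomputable section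

universe u

open CategoryTheory CategoryTheory.Limits AlgebraicGeometry TensorProduct

namespace Groth.Agent.H12Pic.InvDesc

section Algebra

variable {A B : Type u} [CommRing A] [CommRing B] [Algebra A B]

/-- A function on pairs of points. -/
def ev₂ {R : Type u} [CommRing R] [Algebra A R] (j₁ j₂ : B →ₐ[A] R) : B ⊗[A] B →ₐ[A] R :=
  Algebra.TensorProduct.lift j₁ j₂ fun _ _ => Commute.all _ _

theorem ev₂_tmul {R : Type u} [CommRing R] [Algebra A R] (j₁ j₂ : B →ₐ[A] R) (x y : B) :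
    ev₂ j₁ j₂ (x ⊗ₜ y) = j₁ x * j₂ y :=
  Algebra.TensorProduct.lift_tmul _ _ _ _ _

/-- Two primes over the same prime lie under a prime of the tensor product. -/
theorem exists_prime_over (q q' : PrimeSpectrum B)
    (h : q.asIdeal.comap (algebraMap A B) = q'.asIdeal.comap (algebraMap A B)) :
    ∃ r : PrimeSpectrum (B ⊗[A] B), (∀ x, x ∈ q.asIdeal ↔ x ⊗ₜ[A] (1 : B) ∈ r.asIdeal) ∧
      ∀ x, x ∈ q'.asIdeal ↔ (1 : B) ⊗ₜ[A] x ∈ r.asIdeal := by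
  let g := Spec.map (CommRingCat.ofHom (algebraMap A B))
  obtain ⟨z, hz₁, hz₂⟩ := Scheme.Pullback.exists_preimage_pullback (f := g) (g := g) q q' (PrimeSpectrum.ext h)
  let r := (pullbackSpecIso A B B).hom z
  have h₁ : PrimeSpectrum.comap (Algebra.TensorProduct.includeLeftRingHom : B →+* B ⊗[A] B) r = q := by
    rw [← hz₁, ← pullbackSpecIso_hom_fst A B B, Scheme.Hom.comp_apply]
    rfl
  have h₂ : PrimeSpectrum.comap
      (Algebra.TensorProduct.includeRight : B →ₐ[A] B ⊗[A] B).toRingHom r = q' := by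
    rw [← hz₂, ← pullbackSpecIso_hom_snd A B B, Scheme.Hom.comp_apply]
    rfl
  exact ⟨r, fun x => (SetLike.ext_iff.1 (congrArg PrimeSpectrum.asIdeal h₁) x).symm,
    fun x => (SetLike.ext_iff.1 (congrArg PrimeSpectrum.asIdeal h₂) x).symm⟩

/-- The elements twisted by the cocycle. -/
def twisted (c : B ⊗[A] B) : Submodule A B :=
  LinearMap.ker ((Algebra.TensorProduct.includeLeft : B →ₐ[A] B ⊗[A] B).toLinearMap -
    (LinearMap.mulLeft A c).comp (Algebra.TensorProduct.includeRight : B →ₐ[A] B ⊗[A] B).toLinearMap)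

theorem mem_twisted {c : B ⊗[A] B} {b : B} : b ∈ twisted c ↔ b ⊗ₜ[A] (1 : B) = c * (1 : B) ⊗ₜ[A] b := by
  rw [twisted, LinearMap.mem_ker, LinearMap.sub_apply, sub_eq_zero]
  rfl

variable [Module.Flat A B] (c : (B ⊗[A] B)ˣ)
  (hc : ∀ (R : Type u) [CommRing R] [Algebra A R] (j₁ j₂ j₃ : B →ₐ[A] R),
    ev₂ j₁ j₂ (c : B ⊗[A] B) * ev₂ j₂ j₃ (c : B ⊗[A] B) = ev₂ j₁ j₃ (c : B ⊗[A] B))

include hc in
/-- The twisted elements generate the unit ideal. -/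
theorem span_twisted : Ideal.span (twisted (c : B ⊗[A] B) : Set B) = ⊤ := by
  let M := twisted (c : B ⊗[A] B)
  let d := (Algebra.TensorProduct.includeLeft : B →ₐ[A] B ⊗[A] B).toLinearMap -
    (LinearMap.mulLeft A (c : B ⊗[A] B)).comp (Algebra.TensorProduct.includeRight : B →ₐ[A] B ⊗[A] B).toLinearMap
  let j₁ : B →ₐ[A] B ⊗[A] (B ⊗[A] B) := Algebra.TensorProduct.includeLeft
  let j₂ : B →ₐ[A] B ⊗[A] (B ⊗[A] B) :=
    Algebra.TensorProduct.includeRight.comp Algebra.TensorProduct.includeLeft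
  let j₃ : B →ₐ[A] B ⊗[A] (B ⊗[A] B) :=
    Algebra.TensorProduct.includeRight.comp Algebra.TensorProduct.includeRight
  have h23 : ev₂ j₂ j₃ = Algebra.TensorProduct.includeRight := by
    refine Algebra.TensorProduct.ext' fun x y => ?_
    rw [ev₂_tmul]
    simp [j₂, j₃]
  have hd : ∀ z, d.lTensor B z = ev₂ j₁ j₂ z - ev₂ j₂ j₃ (c : B ⊗[A] B) * ev₂ j₁ j₃ z := by
    intro z
    induction z with
    | zero => simp
    | add x y hx hy => simp only [map_add, hx, hy]; ring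
    | tmul x y =>
      rw [LinearMap.lTensor_tmul, ev₂_tmul, ev₂_tmul, h23]
      simp [d, j₁, j₂, j₃, tmul_sub]
  let y : B ⊗[A] B := ((c⁻¹ : (B ⊗[A] B)ˣ) : B ⊗[A] B)
  have hy : d.lTensor B y = 0 := by
    rw [hd, sub_eq_zero]
    have key := hc _ j₁ j₂ j₃
    have h₁₂ : ev₂ j₁ j₂ (c : B ⊗[A] B) * ev₂ j₁ j₂ y = 1 := by
      rw [← map_mul, Units.mul_inv, map_one]
    have h₁₃ : ev₂ j₁ j₃ (c : B ⊗[A] B) * ev₂ j₁ j₃ y = 1 := by
      rw [← map_mul, Units.mul_inv, map_one]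
    calc ev₂ j₁ j₂ y = ev₂ j₁ j₂ y * (ev₂ j₁ j₃ (c : B ⊗[A] B) * ev₂ j₁ j₃ y) := by rw [h₁₃, mul_one]
      _ = ev₂ j₁ j₂ y * (ev₂ j₁ j₂ (c : B ⊗[A] B) * ev₂ j₂ j₃ (c : B ⊗[A] B) * ev₂ j₁ j₃ y) := by rw [key]
      _ = (ev₂ j₁ j₂ (c : B ⊗[A] B) * ev₂ j₁ j₂ y) * (ev₂ j₂ j₃ (c : B ⊗[A] B) * ev₂ j₁ j₃ y) := by ring
      _ = _ := by rw [h₁₂, one_mul]
  obtain ⟨z, hz⟩ := (Module.Flat.lTensor_exact B (LinearMap.exact_subtype_ker_map d) y).1 hy
  have hmem : ∀ z : B ⊗[A] M, Algebra.TensorProduct.lmul' A (M.subtype.lTensor B z) ∈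
      Ideal.span (M : Set B) := by
    intro z
    induction z with
    | zero => simp
    | add x y hx hy => simp only [map_add]; exact add_mem hx hy
    | tmul x m =>
      rw [LinearMap.lTensor_tmul, Algebra.TensorProduct.lmul'_apply_tmul]
      exact Ideal.mul_mem_left _ _ (Ideal.subset_span m.2)
  refine Ideal.eq_top_of_isUnit_mem _ (hz ▸ hmem z) ?_
  exact (Units.map (Algebra.TensorProduct.lmul' A (S := B)).toRingHom.toMonoidHom c⁻¹).isUnit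

variable [Module.FaithfullyFlat A B]

set_option linter.overlappingInstances false in
include hc in
/-- A cocycle is a coboundary near every prime. -/
theorem exists_coboundary (p : PrimeSpectrum A) :
    ∃ a ∉ p.asIdeal, ∃ b : B, b ⊗ₜ[A] (1 : B) = (c : B ⊗[A] B) * (1 : B) ⊗ₜ[A] b ∧
      ∀ q : PrimeSpectrum B, algebraMap A B a ∉ q.asIdeal → b ∉ q.asIdeal := by
  have hsurj := PrimeSpectrum.comap_surjective_of_faithfullyFlat (A := A) (B := B)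
  obtain ⟨q, rfl⟩ := hsurj p
  obtain ⟨b, hb, hbq⟩ : ∃ b ∈ twisted (c : B ⊗[A] B), b ∉ q.asIdeal := by
    by_contra! h
    exact q.isPrime.ne_top (top_le_iff.1 ((span_twisted c hc).ge.trans (Ideal.span_le.2 h)))
  rw [mem_twisted] at hb
  have hsat : ∀ q₁ q₂ : PrimeSpectrum B,
      q₁.asIdeal.comap (algebraMap A B) = q₂.asIdeal.comap (algebraMap A B) →
        b ∈ q₂.asIdeal → b ∈ q₁.asIdeal := fun q₁ q₂ h12 h2 => by
    obtain ⟨r, h₁, h₂⟩ := exists_prime_over q₁ q₂ h12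
    rw [h₁, hb]
    exact r.asIdeal.mul_mem_left _ ((h₂ b).1 h2)
  let F := PrimeSpectrum.comap (algebraMap A B) '' PrimeSpectrum.zeroLocus {b}
  let g := Spec.map (CommRingCat.ofHom (algebraMap A B))
  haveI : Flat g := Flat.SpecMap_iff.2 (by
    rw [CommRingCat.hom_ofHom, RingHom.flat_algebraMap_iff]; infer_instance)
  haveI : Surjective g := ⟨hsurj⟩
  have hF : IsClosed F := by
    refine ((Flat.isQuotientMap_of_surjective g).isClosed_preimage).1 ?_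
    have he : g ⁻¹' F = PrimeSpectrum.zeroLocus {b} := by
      refine Set.ext fun (q₁ : PrimeSpectrum B) => ?_
      change (PrimeSpectrum.comap (algebraMap A B) q₁ ∈ F) ↔ ({b} : Set B) ⊆ q₁.asIdeal
      rw [Set.singleton_subset_iff]
      refine ⟨fun ⟨q₂, h₂, he⟩ => ?_, fun h => ⟨q₁, by simpa using h, rfl⟩⟩
      rw [PrimeSpectrum.mem_zeroLocus, Set.singleton_subset_iff] at h₂
      exact hsat q₁ q₂ (congrArg PrimeSpectrum.asIdeal he).symm h₂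
    rw [he]
    exact PrimeSpectrum.isClosed_zeroLocus _
  have hq : PrimeSpectrum.comap (algebraMap A B) q ∉ F := fun ⟨q₂, h₂, he⟩ => by
    rw [PrimeSpectrum.mem_zeroLocus, Set.singleton_subset_iff] at h₂
    exact hbq (hsat q q₂ (congrArg PrimeSpectrum.asIdeal he).symm h₂)
  obtain ⟨_, ⟨a, rfl⟩, hqa, haF⟩ :=
    PrimeSpectrum.isTopologicalBasis_basic_opens.exists_subset_of_mem_open hq hF.isOpen_compl
  exact ⟨a, hqa, b, hb, fun q₁ ha hb₁ =>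
    haF (show PrimeSpectrum.comap (algebraMap A B) q₁ ∈ _ from ha) ⟨q₁, by simpa using hb₁, rfl⟩⟩

end Algebra

section Scheme

variable {V W : Scheme.{u}} (g : W ⟶ V)

/-- The value of a function on pairs of points. -/
def evP (c : Γ(pullback g g, ⊤)) {T : Scheme.{u}} (t₁ t₂ : T ⟶ W) (h : t₁ ≫ g = t₂ ≫ g) : Γ(T, ⊤) :=
  (pullback.lift t₁ t₂ h).appTop c

theorem evP_comp (c : Γ(pullback g g, ⊤)) {T T' : Scheme.{u}} (u : T' ⟶ T) (t₁ t₂ : T ⟶ W)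
    (h : t₁ ≫ g = t₂ ≫ g) {s₁ s₂ : T' ⟶ W} (hs₁ : u ≫ t₁ = s₁) (hs₂ : u ≫ t₂ = s₂) :
    evP g c s₁ s₂ (by rw [← hs₁, ← hs₂, Category.assoc, Category.assoc, h]) = u.appTop (evP g c t₁ t₂ h) := by
  subst hs₁ hs₂
  have e : pullback.lift (u ≫ t₁) (u ≫ t₂) (by rw [Category.assoc, Category.assoc, h]) =
      u ≫ pullback.lift t₁ t₂ h := by
    apply pullback.hom_ext
    · exact (pullback.lift_fst _ _ _).trans ((congrArg (u ≫ ·) (pullback.lift_fst t₁ t₂ h).symm).trans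
        (Category.assoc _ _ _).symm)
    · exact (pullback.lift_snd _ _ _).trans ((congrArg (u ≫ ·) (pullback.lift_snd t₁ t₂ h).symm).trans
        (Category.assoc _ _ _).symm)
  rw [evP, evP, e, Scheme.Hom.comp_appTop]
  rfl

/-- The cocycle condition. -/
def IsCocycle (c : Γ(pullback g g, ⊤)) : Prop :=
  ∀ (T : Scheme.{u}) (t₁ t₂ t₃ : T ⟶ W) (h₁₂ : t₁ ≫ g = t₂ ≫ g) (h₂₃ : t₂ ≫ g = t₃ ≫ g),
    evP g c t₁ t₂ h₁₂ * evP g c t₂ t₃ h₂₃ = evP g c t₁ t₃ (h₁₂.trans h₂₃)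

theorem toSpecΓ_map_isoSpec_inv [IsAffine W] {T : Scheme.{u}} (t : T ⟶ W) :
    T.toSpecΓ ≫ Spec.map t.appTop ≫ W.isoSpec.inv = t := by
  rw [← Scheme.toSpecΓ_naturality_assoc, Scheme.toSpecΓ_isoSpec_inv, Category.comp_id]

/-- A cocycle of units of a faithfully flat map of affine schemes is locally a coboundary. -/
theorem exists_coboundary_scheme [IsAffine V] [IsAffine W] [Flat g] [Surjective g]
    (c : Γ(pullback g g, ⊤)) (hu : IsUnit c) (hc : IsCocycle g c) (v : V) :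
    ∃ D : V.Opens, v ∈ D ∧ ∃ b : Γ(W, ⊤), g ⁻¹ᵁ D ≤ W.basicOpen b ∧
      ∀ (T : Scheme.{u}) (t₁ t₂ : T ⟶ W) (h : t₁ ≫ g = t₂ ≫ g),
        t₁.appTop b = evP g c t₁ t₂ h * t₂.appTop b := by
  letI : Algebra Γ(V, ⊤) Γ(W, ⊤) := g.appTop.hom.toAlgebra
  have hg : Spec.map (CommRingCat.ofHom (algebraMap Γ(V, ⊤) Γ(W, ⊤))) =
      W.isoSpec.inv ≫ g ≫ V.isoSpec.hom := by
    rw [← Scheme.isoSpec_inv_naturality_assoc, Iso.inv_hom_id, Category.comp_id]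
    rfl
  haveI : Module.FaithfullyFlat Γ(V, ⊤) Γ(W, ⊤) := by
    rw [← RingHom.faithfullyFlat_algebraMap_iff]
    exact (flat_and_surjective_SpecMap_iff (CommRingCat.ofHom (algebraMap Γ(V, ⊤) Γ(W, ⊤)))).1
      ⟨hg ▸ inferInstance, hg ▸ inferInstance⟩
  let i₁ : Γ(W, ⊤) →ₐ[Γ(V, ⊤)] Γ(W, ⊤) ⊗[Γ(V, ⊤)] Γ(W, ⊤) := Algebra.TensorProduct.includeLeft
  let i₂ : Γ(W, ⊤) →ₐ[Γ(V, ⊤)] Γ(W, ⊤) ⊗[Γ(V, ⊤)] Γ(W, ⊤) := Algebra.TensorProduct.includeRight
  let pt : ∀ {R : Type u} [CommRing R] [Algebra Γ(V, ⊤) R] (_ : Γ(W, ⊤) →ₐ[Γ(V, ⊤)] R),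
      Spec (CommRingCat.of R) ⟶ W := fun j => Spec.map (CommRingCat.ofHom j.toRingHom) ≫ W.isoSpec.inv
  have hpt : ∀ {R : Type u} [CommRing R] [Algebra Γ(V, ⊤) R] (j : Γ(W, ⊤) →ₐ[Γ(V, ⊤)] R),
      pt j ≫ g = Spec.map (CommRingCat.ofHom (algebraMap Γ(V, ⊤) R)) ≫ V.isoSpec.inv := fun {R} _ _ j => by
    rw [← j.comp_algebraMap, CommRingCat.ofHom_comp, Spec.map_comp, hg]
    simp [pt]
  have hpt₂ : ∀ {R : Type u} [CommRing R] [Algebra Γ(V, ⊤) R] (j₁ j₂ : Γ(W, ⊤) →ₐ[Γ(V, ⊤)] R),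
      pt j₁ ≫ g = pt j₂ ≫ g := fun j₁ j₂ => (hpt j₁).trans (hpt j₂).symm
  let τ := Scheme.ΓSpecIso (CommRingCat.of (Γ(W, ⊤) ⊗[Γ(V, ⊤)] Γ(W, ⊤)))
  let c' := τ.hom (evP g c (pt i₁) (pt i₂) (hpt₂ _ _))
  have key : ∀ (R : Type u) [CommRing R] [Algebra Γ(V, ⊤) R] (j₁ j₂ : Γ(W, ⊤) →ₐ[Γ(V, ⊤)] R),
      ev₂ j₁ j₂ c' = (Scheme.ΓSpecIso (CommRingCat.of R)).hom (evP g c (pt j₁) (pt j₂) (hpt₂ _ _)) := by
    intro R _ _ j₁ j₂
    let φ := CommRingCat.ofHom (ev₂ j₁ j₂).toRingHom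
    have h₁ : Spec.map φ ≫ pt i₁ = pt j₁ := by
      rw [← Spec.map_comp_assoc, ← CommRingCat.ofHom_comp]
      congr 3
      ext x
      exact (ev₂_tmul j₁ j₂ x 1).trans (by simp)
    have h₂ : Spec.map φ ≫ pt i₂ = pt j₂ := by
      rw [← Spec.map_comp_assoc, ← CommRingCat.ofHom_comp]
      congr 3
      ext x
      exact (ev₂_tmul j₁ j₂ 1 x).trans (by simp)
    rw [evP_comp g c (Spec.map φ) _ _ (hpt₂ i₁ i₂) h₁ h₂]
    exact (ConcreteCategory.congr_hom (Scheme.ΓSpecIso_naturality φ) _).symm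
  have hunit : IsUnit c' := (hu.map (pullback.lift (pt i₁) (pt i₂) (hpt₂ _ _)).appTop.hom).map τ.hom.hom
  obtain ⟨a, ha, b, hb, hbq⟩ := exists_coboundary hunit.unit (fun R _ _ j₁ j₂ j₃ => by
    rw [IsUnit.unit_spec, key, key, key, ← map_mul]
    exact congrArg _ (hc _ _ _ _ _ _)) (V.toSpecΓ v)
  rw [IsUnit.unit_spec] at hb
  refine ⟨V.basicOpen a, ?_, b, fun w hw => ?_, fun T t₁ t₂ h => ?_⟩
  · rw [← Scheme.toSpecΓ_preimage_basicOpen]
    exact ha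
  · rw [← Scheme.toSpecΓ_preimage_basicOpen] at hw ⊢
    refine hbq (W.toSpecΓ w) ?_
    have e : W.toSpecΓ ≫ Spec.map g.appTop = g ≫ V.toSpecΓ := (Scheme.toSpecΓ_naturality g).symm
    have e' : PrimeSpectrum.comap g.appTop.hom (W.toSpecΓ w) = V.toSpecΓ (g w) :=
      congrArg (fun q : W ⟶ Spec Γ(V, ⊤) => q w) e
    intro hmem
    exact hw ((SetLike.ext_iff.1 (congrArg PrimeSpectrum.asIdeal e') a).1 hmem)
  · letI : Algebra Γ(V, ⊤) Γ(T, ⊤) := (t₁ ≫ g).appTop.hom.toAlgebra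
    let j₁ : Γ(W, ⊤) →ₐ[Γ(V, ⊤)] Γ(T, ⊤) := { t₁.appTop.hom with commutes' := fun r => rfl }
    let j₂ : Γ(W, ⊤) →ₐ[Γ(V, ⊤)] Γ(T, ⊤) :=
      { t₂.appTop.hom with commutes' := fun r => (ConcreteCategory.congr_hom (congrArg Scheme.Hom.appTop h) r).symm }
    have h₁ : T.toSpecΓ ≫ pt j₁ = t₁ := toSpecΓ_map_isoSpec_inv t₁
    have h₂ : T.toSpecΓ ≫ pt j₂ = t₂ := toSpecΓ_map_isoSpec_inv t₂
    have hkey := congrArg (ev₂ j₁ j₂) hb
    rw [map_mul, ev₂_tmul, ev₂_tmul, map_one, map_one, mul_one, one_mul, key] at hkey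
    rw [evP_comp g c T.toSpecΓ _ _ (hpt₂ j₁ j₂) h₁ h₂, Scheme.toSpecΓ_appTop]
    exact hkey

end Scheme

end Groth.Agent.H12Pic.InvDesc
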