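import Groth.Agent.H12Pic.InvDesc.Eff.Line

/-!
# Line bundles on disjoint unions
-/

set_option autoImplicit false
set_option linter.style.haveILetI false
set_option linter.unusedSectionVars false

noncomputable section

universe u

open CategoryTheory CategoryTheory.Limits AlgebraicGeometry TopologicalSpace Opposite

namespace Groth.Agent.H12Pic.InvDesc.Eff

open Groth.Agent.H11Tilde

/-- Units over an empty open are one. -/
theorem unit_eq_of_eq_bot {T : Scheme.{u}} (h : ∀ x : T, False) (a b : GU T) : a = b :=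
  eq_of_cover_units (fun _ : PEmpty.{u + 1} => (⊤ : T.Opens)) (fun x => (h x).elim) (fun i => i.elim)

/-- Line bundles on the members of a disjoint cover glue. -/
theorem exists_line_of_disjoint {P : Scheme.{u}} {κ : Type u} (O : κ → P.Opens) (hcov : ∀ x, ∃ k, x ∈ O k)
    (hdis : ∀ k l, k ≠ l → O k ⊓ O l = ⊥) (L : ∀ k, (O k).toScheme.Modules) (hL : ∀ k, PicF.IsInvertible (L k)) :
    ∃ M : P.Modules, PicF.IsInvertible M ∧ ∀ k, Nonempty ((Scheme.Modules.pullback (O k).ι).obj M ≅ L k) := by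
  classical
  let S := fun k => (exists_genSys (L k) (hL k)).some
  let V : (Σ k, (S k).J) → P.Opens := fun a => (O a.1).ι ''ᵁ (S a.1).W a.2
  have hV : ∀ a, V a ≤ O a.1 := fun a => (O a.1).ι_image_le _
  -- the coefficient between two members at a test scheme
  have hlift : ∀ {T : Scheme.{u}} (t : T ⟶ P) (a : Σ k, (S k).J) (h : (⊤ : T.Opens) ≤ t ⁻¹ᵁ V a),
      (⊤ : T.Opens) ≤ toOpen t (h.trans (t.preimage_mono (hV a))) ⁻¹ᵁ (S a.1).W a.2 := fun {T} t a h z hz => by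
    obtain ⟨y, hy, hy'⟩ := h hz
    have : toOpen t (h.trans (t.preimage_mono (hV a))) z = y := (O a.1).ι.isOpenEmbedding.injective (by
      rw [← Scheme.Hom.comp_apply, toOpen_ι]
      exact hy'.symm)
    change toOpen t (h.trans (t.preimage_mono (hV a))) z ∈ (S a.1).W a.2
    rw [this]; exact hy
  let G : ∀ a b : Σ k, (S k).J, Γ(P, V a ⊓ V b)ˣ := fun a b =>
    if e : a.1 = b.1 then by
      obtain ⟨k, i⟩ := a
      obtain ⟨l, j⟩ := b
      obtain rfl : k = l := e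
      exact (exists_valU_eq (V ⟨k, i⟩ ⊓ V ⟨k, j⟩)
        ((S k).data.g (toOpen (V ⟨k, i⟩ ⊓ V ⟨k, j⟩).ι (fun z _ => hV ⟨k, i⟩ z.2.1)) j i
          (hlift (V ⟨k, i⟩ ⊓ V ⟨k, j⟩).ι ⟨k, j⟩ fun z _ => z.2.2)
          (hlift (V ⟨k, i⟩ ⊓ V ⟨k, j⟩).ι ⟨k, i⟩ fun z _ => z.2.1))).choose
    else 1
  have hG : ∀ (k : κ) (i j : (S k).J) {T : Scheme.{u}} (t : T ⟶ P) (hi : (⊤ : T.Opens) ≤ t ⁻¹ᵁ V ⟨k, i⟩)
      (hj : (⊤ : T.Opens) ≤ t ⁻¹ᵁ V ⟨k, j⟩) (l : T ⟶ (O k).toScheme) (_ : l ≫ (O k).ι = t)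
      (hi' : (⊤ : T.Opens) ≤ l ⁻¹ᵁ (S k).W i) (hj' : (⊤ : T.Opens) ≤ l ⁻¹ᵁ (S k).W j),
      valU (O := V ⟨k, i⟩ ⊓ V ⟨k, j⟩) t (fun z hz => ⟨hi hz, hj hz⟩) (G ⟨k, i⟩ ⟨k, j⟩) = (S k).data.g l j i hj' hi' := by
    intro k i j T t hi hj l hl hi' hj'
    have ht : (⊤ : T.Opens) ≤ t ⁻¹ᵁ (V ⟨k, i⟩ ⊓ V ⟨k, j⟩) := fun z hz => ⟨hi hz, hj hz⟩
    rw [valU_eq_pull t ht (toOpen t ht) (toOpen_ι _ _)]
    simp only [G, dif_pos trivial]
    rw [(exists_valU_eq _ _).choose_spec]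
    refine ((S k).data.g_nat _ _ l ?_ j i _ _ hj' hi').symm
    rw [← cancel_mono (O k).ι, Category.assoc, toOpen_ι, toOpen_ι, hl]
  have hVne : ∀ {a b : Σ k, (S k).J} {T : Scheme.{u}} (t : T ⟶ P), a.1 ≠ b.1 → (⊤ : T.Opens) ≤ t ⁻¹ᵁ V a →
      (⊤ : T.Opens) ≤ t ⁻¹ᵁ V b → ∀ z : T, False := fun {a b T} t hne ha hb z => by
    have : t z ∈ O a.1 ⊓ O b.1 := ⟨hV a (ha (x := z) trivial), hV b (hb (x := z) trivial)⟩
    rw [hdis _ _ hne] at this
    exact this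
  let D : H7Flat.LineCocycle.Data P :=
    { J := Σ k, (S k).J
      V := V
      g := fun a b => (G a b : Γ(P, V a ⊓ V b))
      isUnit := fun a b => (G a b).isUnit
      cover := fun x => by
        obtain ⟨k, hk⟩ := hcov x
        obtain ⟨i, hi⟩ := (S k).cover ⟨x, hk⟩
        exact ⟨⟨k, i⟩, ⟨x, hk⟩, hi, rfl⟩
      cocycle := fun a b c N ha hb hc => by
        refine congrArg Units.val (?_ :
          Units.map (H7Flat.LineCocycle.rr (le_inf ha hb)).toMonoidHom (G a b) *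
            Units.map (H7Flat.LineCocycle.rr (le_inf hb hc)).toMonoidHom (G b c) =
          Units.map (H7Flat.LineCocycle.rr (le_inf ha hc)).toMonoidHom (G a c))
        refine valU_injective N ?_
        have hO : ∀ {W : P.Opens}, N ≤ W → (⊤ : N.toScheme.Opens) ≤ N.ι ⁻¹ᵁ W := fun h z _ => h z.2
        have e : ∀ {W : P.Opens} (h : N ≤ W) (x : Γ(P, W)ˣ),
            valU N.ι (lands_ι N) (Units.map (H7Flat.LineCocycle.rr h).toMonoidHom x) = valU N.ι (hO h) x :=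
          fun {W} h x => valU_res h N.ι (lands_ι N) x
        simp only [valU, map_mul] at e ⊢
        rw [e, e, e]
        by_cases hab : a.1 = b.1
        · by_cases hbc : b.1 = c.1
          · obtain ⟨k, i⟩ := a
            obtain ⟨k', j⟩ := b
            obtain ⟨k'', l⟩ := c
            obtain rfl : k = k' := hab
            obtain rfl : k = k'' := hbc
            have ho := toOpen_ι N.ι ((hO ha).trans (N.ι.preimage_mono (hV ⟨k, i⟩)))
            have h₁ := hG k i j N.ι (hO ha) (hO hb) _ ho (hlift _ ⟨k, i⟩ (hO ha)) (hlift _ ⟨k, j⟩ (hO hb))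
            have h₂ := hG k j l N.ι (hO hb) (hO hc) _ ho (hlift _ ⟨k, j⟩ (hO hb)) (hlift _ ⟨k, l⟩ (hO hc))
            have h₃ := hG k i l N.ι (hO ha) (hO hc) _ ho (hlift _ ⟨k, i⟩ (hO ha)) (hlift _ ⟨k, l⟩ (hO hc))
            simp only [valU] at h₁ h₂ h₃
            rw [h₁, h₂, h₃]
            rw [mul_comm]
            exact (S k).data.g_mul _ _ _ _ _ _ _
          · exact unit_eq_of_eq_bot (hVne N.ι hbc (hO hb) (hO hc)) _ _
        · exact unit_eq_of_eq_bot (hVne N.ι hab (hO ha) (hO hb)) _ _ }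
  refine ⟨H7Flat.LineCocycle.line D, H7Flat.LineCocycle.isInvertible_line D, fun k => ?_⟩
  have hpre : ∀ i, (S k).W i ≤ (O k).ι ⁻¹ᵁ V ⟨k, i⟩ := fun i z hz => ⟨z, hz, rfl⟩
  obtain ⟨φ, -⟩ := H11Ample.exists_iso_of_gen (S k).W (S k).cover
    (fun i => ((Scheme.Modules.pullback (O k).ι).obj (H7Flat.LineCocycle.line D)).presheaf.map (homOfLE (hpre i)).op
      (OmegaSh.pullSect (O k).ι _ (V ⟨k, i⟩) (H7Flat.LineCocycle.gen D ⟨k, i⟩)))
    (fun i => ((H7Flat.LineCocycle.isGen_gen D ⟨k, i⟩).pullSect (O k).ι).res _) (S k).e (S k).gen fun i j u hu => by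
      let N := (S k).W i ⊓ (S k).W j
      have hVV : N ≤ (O k).ι ⁻¹ᵁ (V ⟨k, j⟩ ⊓ V ⟨k, i⟩) := fun z hz => ⟨hpre j hz.2, hpre i hz.1⟩
      have hq := congrArg (OmegaSh.pullSect (O k).ι (H7Flat.LineCocycle.line D) _)
        (H7Flat.LineCocycle.gen_trans D ⟨k, j⟩ ⟨k, i⟩ (V ⟨k, j⟩ ⊓ V ⟨k, i⟩) inf_le_left inf_le_right)
      rw [OmegaSh.pullSect_smul, pullSect_res, pullSect_res] at hq
      have hq' := congrArg (((Scheme.Modules.pullback (O k).ι).obj (H7Flat.LineCocycle.line D)).presheaf.map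
        (homOfLE hVV).op) hq
      erw [Scheme.Modules.map_smul, H10Coh.mres_mres, H10Coh.mres_mres] at hq'
      have hu' : u = (O k).toScheme.presheaf.map (homOfLE hVV).op ((O k).ι.app _
          (H7Flat.LineCocycle.rr (le_inf inf_le_left inf_le_right) (G ⟨k, j⟩ ⟨k, i⟩ : Γ(P, _)))) := by
        refine (((H7Flat.LineCocycle.isGen_gen D ⟨k, j⟩).pullSect (O k).ι).bijective
          ((inf_le_right : N ≤ _).trans (hpre j))).1 ?_
        erw [H10Coh.mres_mres, H10Coh.mres_mres] at hu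
        exact hu.symm.trans hq'
      rw [(S k).ha i j, hu']
      congr 1
      refine (bijective_ι_appLE N (le_ι_preimage N)).1 ?_
      rw [appLE_res, ← Scheme.Hom.appLE_eq_app]
      erw [appLE_appLE, appLE_res]
      have hi : (⊤ : N.toScheme.Opens) ≤ N.ι ⁻¹ᵁ (S k).W i := fun z _ => z.2.1
      have hj : (⊤ : N.toScheme.Opens) ≤ N.ι ⁻¹ᵁ (S k).W j := fun z _ => z.2.2
      have h₁ := hG k j i (N.ι ≫ (O k).ι) (fun z _ => hpre j z.2.2) (fun z _ => hpre i z.2.1) N.ι rfl hj hi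
      exact congrArg Units.val h₁.symm
  exact ⟨φ⟩

end Groth.Agent.H12Pic.InvDesc.Eff
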