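import Groth.Agent.H23Para.CounitDescent

/-!
# `O = f_* O` after a flat base change
-/

set_option autoImplicit false
set_option linter.style.haveILetI false

noncomputable section

universe u

open CategoryTheory CategoryTheory.Limits AlgebraicGeometry TopologicalSpace Opposite

namespace Groth.Agent.H12Pic.InvDesc

variable {X Y : Scheme.{u}}

/-- A morphism with `f_* O` abstractly isomorphic to `O` has the functions of the base. -/
theorem bijective_app_of_iso (f : X ⟶ Y)
    (e : (Scheme.Modules.pushforward f).obj (Coh.structureModule X) ≅ Coh.structureModule Y) (U : Y.Opens) :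
    Function.Bijective (f.app U) := by
  let a : Γ(X, f ⁻¹ᵁ U) → Γ(Y, U) := fun z => e.hom.app U z
  have hsmul : ∀ (t : Γ(Y, U)) (z : Γ(X, f ⁻¹ᵁ U)), a (f.app U t * z) = t * a z := fun t z =>
    Scheme.Modules.Hom.app_smul e.hom t z
  obtain ⟨ψ, hψ⟩ : ∃ ψ : Γ(X, f ⁻¹ᵁ U), a ψ = 1 := (ConcreteCategory.bijective_of_isIso (e.hom.app U)).2 (1 : Γ(Y, U))
  have hinj : Function.Injective a := (ConcreteCategory.bijective_of_isIso (e.hom.app U)).1
  have hψ' : a ψ = 1 := hψ
  have hrep : ∀ z, f.app U (a z) * ψ = z := fun z => hinj (by rw [hsmul, hψ', mul_one])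
  have hu : IsUnit ψ := IsUnit.of_mul_eq_one _ ((mul_comm _ _).trans (hrep 1))
  refine ⟨fun s t h => ?_, fun z => ⟨a (z * ψ), hu.mul_right_cancel (hrep (z * ψ))⟩⟩
  have := congrArg (fun w => a (w * ψ)) h
  simpa only [hsmul, hψ', mul_one] using this

/-- `O = f_* O` for a qcqs morphism is stable under flat base change. -/
theorem bijective_app_flat_baseChange (f : X ⟶ Y) [QuasiCompact f] [QuasiSeparated f]
    (hf : ∀ V : Y.Opens, Function.Bijective (f.app V)) {T : Scheme.{u}} (g : T ⟶ Y) [Flat g] (U : T.Opens) :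
    Function.Bijective ((pullback.snd f g).app U) := by
  haveI : Coh.IsQCoh (Coh.structureModule X) := H28Mero.isQCoh_of_isInvertible H23Para.isInvertible_structureModule
  haveI := H23Para.isIso_unitHom_of_bijective f hf
  obtain ⟨b⟩ := H23Para.nonempty_pullback_pushforward f g (Coh.structureModule X)
  exact bijective_app_of_iso _ ((Scheme.Modules.pushforward (pullback.snd f g)).mapIso
    (H16Derived.KFlat.Stalk.structurePullbackIso (pullback.fst f g)).symm ≪≫ b.symm ≪≫
    (Scheme.Modules.pullback g).mapIso (asIso (H23Para.unitHom f)).symm ≪≫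
    H16Derived.KFlat.Stalk.structurePullbackIso g) U

end Groth.Agent.H12Pic.InvDesc
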