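import Groth.Agent.H12Pic.InvDesc.Trivial
import Groth.Agent.H11Tilde.Gen
import Mathlib.AlgebraicGeometry.Morphisms.FiniteType

/-!
# A line bundle trivial on a faithfully flat cover of the base comes from the base
-/

set_option autoImplicit false
set_option linter.style.haveILetI false
set_option linter.unusedSectionVars false

noncomputable section

universe u

open CategoryTheory CategoryTheory.Limits AlgebraicGeometry TopologicalSpace Opposite

namespace Groth.Agent.H12Pic.InvDesc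

open Groth.Agent.H11Tilde

variable {X S S' : Scheme.{u}}

theorem bijective_appTop_iso {A B : Scheme.{u}} (e : A ≅ B) : Function.Bijective e.hom.appTop := by
  haveI : IsIso e.hom.appTop := inferInstanceAs (IsIso (e.hom.app ⊤))
  exact ConcreteCategory.bijective_of_isIso _

/-- Finitely many affine opens over an affine open give an affine cover of it. -/
theorem exists_affine_of_finset (h : S' ⟶ S) [Flat h] (V : S.Opens) {ι : Type u} (t : Finset ι) (U : ι → S'.Opens)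
    (hU : ∀ i ∈ t, IsAffineOpen (U i) ∧ U i ≤ h ⁻¹ᵁ V) (hcov : ∀ v ∈ V, ∃ i ∈ t, ∃ x ∈ U i, h x = v) :
    ∃ (W : Scheme.{u}) (_ : IsAffine W) (g : W ⟶ V.toScheme) (w : W ⟶ S'),
      Flat g ∧ Surjective g ∧ g ≫ V.ι = w ≫ h := by
  let Z : t → Scheme.{u} := fun i => (U i.1).toScheme
  haveI : ∀ i, IsAffine (Z i) := fun i => (hU i.1 i.2).1
  let w : (∐ Z) ⟶ S' := Sigma.desc fun i => (U i.1).ι
  let g : (∐ Z) ⟶ V.toScheme := Sigma.desc fun i =>
    IsOpenImmersion.lift V.ι ((U i.1).ι ≫ h) (by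
      rintro _ ⟨x, rfl⟩
      rw [Scheme.Opens.range_ι]
      exact (hU i.1 i.2).2 x.2)
  have hfac : g ≫ V.ι = w ≫ h := Sigma.hom_ext _ _ fun i => by
    rw [Sigma.ι_desc_assoc, Sigma.ι_desc_assoc, IsOpenImmersion.lift_fac]
  have hflat : Flat g := by
    haveI : Flat w := IsZariskiLocalAtSource.sigmaDesc fun i => inferInstance
    haveI : Flat (g ≫ V.ι) := hfac ▸ inferInstance
    have hsq : IsPullback (g ≫ 𝟙 _) (𝟙 (∐ Z)) V.ι (g ≫ V.ι) :=
      (IsPullback.of_vert_isIso ⟨by simp⟩ : IsPullback g (𝟙 (∐ Z)) (𝟙 V.toScheme) g).paste_horiz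
        (IsKernelPair.id_of_mono V.ι)
    rw [← Category.comp_id g]
    exact MorphismProperty.of_isPullback (P := @Flat) hsq.flip ‹_›
  refine ⟨∐ Z, inferInstance, g, w, hflat, ⟨fun v => ?_⟩, hfac⟩
  obtain ⟨i, hi, x, hx, hxv⟩ := hcov (V.ι v) v.2
  refine ⟨Sigma.ι Z ⟨i, hi⟩ ⟨x, hx⟩, V.ι.isOpenEmbedding.injective ?_⟩
  rw [← Scheme.Hom.comp_apply, ← Scheme.Hom.comp_apply, hfac, ← Category.assoc]
  refine Eq.trans ?_ hxv
  erw [Sigma.ι_desc]
  rfl

/-- Over an affine open, an fppf covering has an affine refinement. -/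
theorem exists_affine_of_isOpenMap (h : S' ⟶ S) [Flat h] [Surjective h] (ho : IsOpenMap h) (V : S.Opens)
    (hV : IsAffineOpen V) :
    ∃ (W : Scheme.{u}) (_ : IsAffine W) (g : W ⟶ V.toScheme) (w : W ⟶ S'),
      Flat g ∧ Surjective g ∧ g ≫ V.ι = w ≫ h := by
  have hx : ∀ v : V, ∃ U : S'.Opens, IsAffineOpen U ∧ U ≤ h ⁻¹ᵁ V ∧ v.1 ∈ h '' (U : Set S') := fun v => by
    obtain ⟨x, hx⟩ := h.surjective v.1
    obtain ⟨U, hU, hxU, hUV⟩ := exists_isAffineOpen_mem_and_subset (U := h ⁻¹ᵁ V) (x := x)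
      (show h x ∈ V by rw [hx]; exact v.2)
    exact ⟨U, hU, hUV, x, hxU, hx⟩
  choose U hU hUV hUv using hx
  obtain ⟨t, ht⟩ := hV.isCompact.elim_finite_subcover (fun v : V => h '' (U v : Set S'))
    (fun v => ho _ (U v).isOpen) fun v hv => Set.mem_iUnion.2 ⟨⟨v, hv⟩, hUv _⟩
  exact exists_affine_of_finset h V t U (fun i _ => ⟨hU i, hUV i⟩) fun v hv => by
    obtain ⟨i, hi, x, hx, hxv⟩ := Set.mem_iUnion₂.1 (ht hv)
    exact ⟨i, hi, x, hx, hxv⟩

/-- Over an affine open, an fpqc covering has an affine refinement. -/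
theorem exists_affine_of_quasiCompact (h : S' ⟶ S) [Flat h] [Surjective h] [QuasiCompact h] (V : S.Opens)
    (hV : IsAffineOpen V) :
    ∃ (W : Scheme.{u}) (_ : IsAffine W) (g : W ⟶ V.toScheme) (w : W ⟶ S'),
      Flat g ∧ Surjective g ∧ g ≫ V.ι = w ≫ h := by
  have hx : ∀ x : (h ⁻¹ᵁ V : S'.Opens), ∃ U : S'.Opens, IsAffineOpen U ∧ U ≤ h ⁻¹ᵁ V ∧ x.1 ∈ U := fun x => by
    obtain ⟨U, hU, hxU, hUV⟩ := exists_isAffineOpen_mem_and_subset (U := h ⁻¹ᵁ V) (x := x.1) x.2
    exact ⟨U, hU, hUV, hxU⟩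
  choose U hU hUV hUx using hx
  obtain ⟨t, ht⟩ := (QuasiCompact.isCompact_preimage (f := h) _ V.isOpen hV.isCompact).elim_finite_subcover
    (fun x => (U x : Set S')) (fun x => (U x).isOpen) fun x hx => Set.mem_iUnion.2 ⟨⟨x, hx⟩, hUx _⟩
  exact exists_affine_of_finset h V t U (fun i _ => ⟨hU i, hUV i⟩) fun v hv => by
    obtain ⟨x, rfl⟩ := h.surjective v
    obtain ⟨i, hi, hx⟩ := Set.mem_iUnion₂.1 (ht hv)
    exact ⟨i, hi, x, hx, rfl⟩

variable (f : X ⟶ S)

include f in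
/-- The direct image of the functions is the functions. -/
theorem bijective_app (hb : ∀ (T : Scheme.{u}) (t : T ⟶ S), Function.Bijective (pullback.snd f t).appTop)
    (U : S.Opens) : Function.Bijective (f.app U) := by
  have e : (pullback.snd f U.ι).appTop = (f ∣_ U).appTop ≫ (pullbackRestrictIsoRestrict f U).hom.appTop := by
    rw [← Scheme.Hom.comp_appTop, pullbackRestrictIsoRestrict_hom_morphismRestrict]
  have h₀ := hb _ U.ι
  rw [e] at h₀
  have h : Function.Bijective ((pullbackRestrictIsoRestrict f U).hom.appTop ∘ (f ∣_ U).appTop) := h₀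
  have h₁ : Function.Bijective (f ∣_ U).appTop :=
    (Function.Bijective.of_comp_iff' (bijective_appTop_iso _) _).1 h
  have hcomm : ∀ u, (f ∣_ U).appTop (U.ι.appLE U ⊤ (le_ι_preimage U) u) =
      (f ⁻¹ᵁ U).ι.appLE (f ⁻¹ᵁ U) ⊤ (le_ι_preimage _) (f.app U u) := restrict_appLE f U
  refine (Function.Bijective.of_comp_iff' (bijective_ι_appLE _ (le_ι_preimage (f ⁻¹ᵁ U))) _).1 ?_
  have h₂ := h₁.comp (bijective_ι_appLE U (le_ι_preimage U))
  rwa [show (f ∣_ U).appTop ∘ U.ι.appLE U ⊤ (le_ι_preimage U) = _ from funext hcomm] at h₂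

/-- A line bundle trivial on a faithfully flat cover of the base comes from the base. -/
theorem exists_invertible_of_trivial_on_cover
    (hb : ∀ (T : Scheme.{u}) (t : T ⟶ S), Function.Bijective (pullback.snd f t).appTop)
    {L : X.Modules} (hL : PicF.IsInvertible L)
    (hcov : ∀ V : S.Opens, IsAffineOpen V → ∃ (W : Scheme.{u}) (_ : IsAffine W) (g : W ⟶ V.toScheme),
      Flat g ∧ Surjective g ∧ Nonempty ((Scheme.Modules.pullback (pullback.fst f (g ≫ V.ι))).obj L ≅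
        Coh.structureModule (pullback f (g ≫ V.ι)))) :
    ∃ N : S.Modules, PicF.IsInvertible N ∧ Nonempty (L ≅ (Scheme.Modules.pullback f).obj N) := by
  refine H28Pinch.exists_invertible_of_locally_trivial f (bijective_app f hb) L fun s => ?_
  obtain ⟨V, hV, hsV, -⟩ := exists_isAffineOpen_mem_and_subset (U := (⊤ : S.Opens)) (x := s) trivial
  obtain ⟨W, hW, g, hg, hgs, ⟨θ⟩⟩ := hcov V hV
  haveI : IsAffine V.toScheme := hV
  let f' := f ∣_ V
  let L' := (Scheme.Modules.pullback (f ⁻¹ᵁ V).ι).obj L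
  have hsq : IsPullback (f ⁻¹ᵁ V).ι f' f V.ι := (isPullback_morphismRestrict f V).flip
  have hb' : ∀ (T : Scheme.{u}) (t : T ⟶ V.toScheme), Function.Bijective (pullback.snd f' t).appTop := fun T t => by
    have hp := (IsPullback.of_hasPullback f' t).paste_horiz hsq
    rw [← hp.isoPullback_hom_snd, Scheme.Hom.comp_appTop]
    exact Function.Bijective.comp (g := hp.isoPullback.hom.appTop) (bijective_appTop_iso _) (hb T _)
  let m : pullback f' g ⟶ pullback f (g ≫ V.ι) :=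
    pullback.lift (pullback.fst f' g ≫ (f ⁻¹ᵁ V).ι) (pullback.snd f' g) (by
      rw [Category.assoc, hsq.w, pullback.condition_assoc])
  let θ' : (Scheme.Modules.pullback (pullback.fst f' g)).obj L' ≅ Coh.structureModule (pullback f' g) :=
    (Scheme.Modules.pullbackComp _ _).app L ≪≫
      (Scheme.Modules.pullbackCongr (pullback.lift_fst _ _ _).symm).app L ≪≫
      ((Scheme.Modules.pullbackComp m _).app L).symm ≪≫ (Scheme.Modules.pullback m).mapIso θ ≪≫
      PicLoc.pullbackStructureIso m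
  obtain ⟨D, hsD, e, he⟩ := exists_nhd_trivial f' g hb' (H11Ample.isInvertible_pullback _ hL) θ' ⟨s, hsV⟩
  obtain ⟨φ⟩ := H11Tilde.nonempty_iso_structureModule L' _ e fun W' hW' => he.bijective hW'
  refine ⟨V.ι ''ᵁ D, ⟨⟨s, hsV⟩, hsD, rfl⟩, ?_⟩
  let j := (f' ⁻¹ᵁ D).ι ≫ (f ⁻¹ᵁ V).ι
  have hr : Set.range (f ⁻¹ᵁ (V.ι ''ᵁ D)).ι = Set.range j := by
    rw [Scheme.Opens.range_ι, ← image_morphismRestrict_preimage, Scheme.Hom.comp_base, TopCat.coe_comp,
      Set.range_comp, Scheme.Opens.range_ι]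
    rfl
  let ψ := IsOpenImmersion.isoOfRangeEq (f ⁻¹ᵁ (V.ι ''ᵁ D)).ι j hr
  exact ⟨(Scheme.Modules.pullbackCongr (IsOpenImmersion.isoOfRangeEq_hom_fac _ _ hr).symm).app L ≪≫
    ((Scheme.Modules.pullbackComp ψ.hom j).app L).symm ≪≫
    (Scheme.Modules.pullback ψ.hom).mapIso (((Scheme.Modules.pullbackComp _ _).app L).symm ≪≫
      ((Scheme.Modules.restrictFunctorIsoPullback _).app L').symm ≪≫ φ) ≪≫
    PicLoc.pullbackStructureIso _⟩

end Groth.Agent.H12Pic.InvDesc
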