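import Groth.Agent.H12Pic.InvDesc.Eff.Rigid
import Groth.Agent.H12Pic.InvDesc.FlatFunctions
import Groth.Agent.H25Theta.Basic

/-!
# Descent of line bundles modulo the base
-/

set_option autoImplicit false
set_option linter.style.haveILetI false
set_option linter.unusedSectionVars false

noncomputable section

universe u

open CategoryTheory CategoryTheory.Limits AlgebraicGeometry TopologicalSpace Opposite

namespace Groth.Agent.H12Pic.InvDesc

open Groth.Agent.H25Theta H10Coh.Tw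

variable {X S U : Scheme.{u}} (f : X ⟶ S) (σ : S ⟶ X) (hσ : σ ≫ f = 𝟙 S)

theorem section_pullback {Y Z : Scheme.{u}} {π : Y ⟶ Z} {s : Z ⟶ Y} (h : s ≫ π = 𝟙 Z) (N : Z.Modules) :
    Nonempty (pb s (pb π N) ≅ N) :=
  ⟨pC s π rfl N ≪≫ pI _ h N⟩

/-- Rigidified line bundles equal modulo the base are equal. -/
theorem iso_of_rigid_of_twist {Y Z : Scheme.{u}} {π : Y ⟶ Z} {s : Z ⟶ Y} (h : s ≫ π = 𝟙 Z) {A B : Y.Modules}
    {N : Z.Modules} (e : A ≅ CohB1.tensorMod B (pb π N)) (a : pb s A ≅ Coh.structureModule Z)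
    (b : pb s B ≅ Coh.structureModule Z) : Nonempty (A ≅ B) := by
  obtain ⟨c⟩ := section_pullback h N
  let n : N ≅ Coh.structureModule Z :=
    (leftUnitIso N).symm ≪≫ tI b.symm c.symm ≪≫ (pT s B (pb π N)).symm ≪≫ (Scheme.Modules.pullback s).mapIso e.symm ≪≫ a
  exact ⟨e ≪≫ tI (Iso.refl B) ((Scheme.Modules.pullback π).mapIso n ≪≫ pO π) ≪≫ rightUnitIso B⟩

include hσ in
/-- A line bundle on `X_U` whose pullbacks to `X_{U ×_S U}` agree modulo the base is one from `X` modulo the base. -/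
theorem exists_descended_mod_base (u : U ⟶ S) [Flat u] [Surjective u]
    (hq : QuasiCompact (pullback.fst f u) ∨ IsOpenMap (pullback.fst f u))
    (hb : Function.Surjective (pullback.snd f (Eff.triple u)).appTop)
    {L : (pullback f u).Modules} (hL : PicF.IsInvertible L) {N'' : (pullback u u).Modules}
    (e : pb (Eff.bc₁ f u) L ≅
      CohB1.tensorMod (pb (Eff.bc₂ f u) L) (pb (pullback.snd f (pullback.fst u u ≫ u)) N'')) :
    ∃ (M : X.Modules) (N' : U.Modules), PicF.IsInvertible M ∧ PicF.IsInvertible N' ∧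
      Nonempty (L ≅ CohB1.tensorMod (pb (pullback.fst f u) M) (pb (pullback.snd f u) N')) := by
  let π := pullback.snd f u
  let s := Eff.bcσ f σ hσ u
  have hs : s ≫ π = 𝟙 U := pullback.lift_snd _ _ _
  let Nσ := pb s L
  have hNσ : PicF.IsInvertible Nσ := H11Ample.isInvertible_pullback s hL
  obtain ⟨K, hK, ⟨κ⟩⟩ := H11Sym.exists_inverse hNσ
  let L₀ := CohB1.tensorMod L (pb π K)
  have hL₀ : PicF.IsInvertible L₀ := H11Ample.isInvertible_tensor hL (H11Ample.isInvertible_pullback π hK)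
  obtain ⟨cK⟩ := section_pullback hs K
  let r₀ : pb s L₀ ≅ Coh.structureModule U := pT s L (pb π K) ≪≫ tI (Iso.refl _) cK ≪≫ commIso Nσ K ≪≫ κ
  -- the original is the rigidified one twisted by the base
  let back : L ≅ CohB1.tensorMod L₀ (pb π Nσ) :=
    (rightUnitIso L).symm ≪≫ tI (Iso.refl L) ((pO π).symm ≪≫ (Scheme.Modules.pullback π).mapIso κ.symm ≪≫ pT π K Nσ) ≪≫
      (assoc L (pb π K) (pb π Nσ)).symm
  let π'' := pullback.snd f (pullback.fst u u ≫ u)
  let b₁ := Eff.bc₁ f u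
  let b₂ := Eff.bc₂ f u
  have hb₁ : b₁ ≫ π = π'' ≫ pullback.fst u u := pullback.lift_snd _ _ _
  have hb₂ : b₂ ≫ π = π'' ≫ pullback.snd u u := pullback.lift_snd _ _ _
  let s'' := Eff.bcσ f σ hσ (pullback.fst u u ≫ u)
  have hs'' : s'' ≫ π'' = 𝟙 _ := pullback.lift_snd _ _ _
  have hsb₁ : s'' ≫ b₁ = pullback.fst u u ≫ s := by
    apply pullback.hom_ext
    · rw [Category.assoc, Category.assoc, pullback.lift_fst, pullback.lift_fst, pullback.lift_fst, Category.assoc]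
    · rw [Category.assoc, Category.assoc, pullback.lift_snd, pullback.lift_snd_assoc, pullback.lift_snd,
        Category.id_comp, Category.comp_id]
  have hsb₂ : s'' ≫ b₂ = pullback.snd u u ≫ s := by
    apply pullback.hom_ext
    · rw [Category.assoc, Category.assoc, pullback.lift_fst, pullback.lift_fst, pullback.lift_fst,
        pullback.condition]
      exact Category.assoc _ _ _
    · rw [Category.assoc, Category.assoc, pullback.lift_snd, pullback.lift_snd_assoc, pullback.lift_snd,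
        Category.id_comp, Category.comp_id]
  let rig : ∀ {b : pullback f (pullback.fst u u ≫ u) ⟶ pullback f u} {p : pullback u u ⟶ U}, s'' ≫ b = p ≫ s →
      (pb s'' (pb b L₀) ≅ Coh.structureModule (pullback u u)) := fun {b p} h =>
    pC s'' b h L₀ ≪≫ (pC p s rfl L₀).symm ≪≫ (Scheme.Modules.pullback p).mapIso r₀ ≪≫ pO p
  -- the pullbacks of the rigidified bundle agree modulo the base
  let f₁ : pb b₁ L₀ ≅ CohB1.tensorMod (pb b₁ L) (pb π'' (pb (pullback.fst u u) K)) :=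
    pT b₁ L (pb π K) ≪≫ tI (Iso.refl _) (pC b₁ π hb₁ K ≪≫ (pC π'' (pullback.fst u u) rfl K).symm)
  let f₂ : pb b₂ L ≅ CohB1.tensorMod (pb b₂ L₀) (pb π'' (pb (pullback.snd u u) Nσ)) :=
    (Scheme.Modules.pullback b₂).mapIso back ≪≫ pT b₂ L₀ (pb π Nσ) ≪≫
      tI (Iso.refl _) (pC b₂ π hb₂ Nσ ≪≫ (pC π'' (pullback.snd u u) rfl Nσ).symm)
  let N₃ := CohB1.tensorMod (CohB1.tensorMod (pb (pullback.snd u u) Nσ) N'') (pb (pullback.fst u u) K)
  let f₃ : pb b₁ L₀ ≅ CohB1.tensorMod (pb b₂ L₀) (pb π'' N₃) :=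
    f₁ ≪≫ tI (e ≪≫ tI f₂ (Iso.refl _) ≪≫ assoc _ _ _ ≪≫ tI (Iso.refl _) (pT π'' _ N'').symm) (Iso.refl _) ≪≫
      assoc _ _ _ ≪≫ tI (Iso.refl _) (pT π'' _ _).symm
  obtain ⟨α⟩ := iso_of_rigid_of_twist hs'' f₃ (rig hsb₁) (rig hsb₂)
  obtain ⟨M, hM, ⟨φ⟩⟩ := Eff.exists_descended_rigid f σ hσ u hq hL₀ ⟨α⟩ ⟨r₀⟩ hb
  exact ⟨M, Nσ, hM, hNσ, ⟨back ≪≫ tI φ.symm (Iso.refl _)⟩⟩

end Groth.Agent.H12Pic.InvDesc
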